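import Groth.Agent.Jac.K317.ThetaBC
import Groth.Agent.JacVar.K531.ThetaLoc
import Groth.Agent.JacVar.K533.AbelAt

/-!
# Graph classes under extension of the base field; degrees of constant families

* `comap_ker_iso`; `ptDn`, `ptUp`; `tr_gcl`.
* `hasDeg_of_deg`.
-/

set_option autoImplicit false
universe u
open CategoryTheory CategoryTheory.Limits AlgebraicGeometry Opposite TopologicalSpace MonoidalCategory
  CartesianMonoidalCategory

namespace K317.TrGcl

open Groth.Agent Groth.Agent.Grpsch Groth.Agent.Grpsch.PicGrp Groth.Agent.Fga.RigGrp Groth.Agent.Fga.JacSum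
open Groth.Agent.Fga.JacAlg Groth.Agent.Picfga.ChiDef Groth.Agent.Fga.JacSurj Groth.Agent.Ega3A.PicLocBase
open K914.Cls K914.Points K317.CoarseBC K732.BC K317.JumpPts K317.ThetaBC Groth.Agent.Fdesc.LocGen

/-- The ideal of an image along an isomorphism. -/
theorem comap_ker_iso {Y Y' T : Scheme.{u}} (s : T ⟶ Y) [QuasiCompact s] (e : Y' ⟶ Y) [IsIso e] (s' : T ⟶ Y')
    (h : s' ≫ e = s) : s.ker.comap e = s'.ker := by
  rw [← S4667.result s e]
  have h1 : pullback.snd s e = pullback.fst s e ≫ s' := by
    rw [← cancel_mono e, Category.assoc, h, pullback.condition]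
  rw [h1, Scheme.Hom.ker_comp_of_isIso]

section tr

variable {k : Type u} [Field k] {X : Scheme.{u}} {f : X ⟶ Spec (CommRingCat.of k)}
  {K : Type u} [Field K] (a : Spec (CommRingCat.of K) ⟶ Spec (CommRingCat.of k))
  {T : Over (Spec (CommRingCat.of K))}

/-- A point of the base change is a point. -/
noncomputable def ptDn (x : Pt (pullback.snd f a) T) : Pt f ((Over.map a).obj T) :=
  ⟨x.1 ≫ pullback.fst f a, by
    rw [Category.assoc, pullback.condition, ← Category.assoc, x.2]
    rfl⟩

/-- A point is a point of the base change. -/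
noncomputable def ptUp (x : Pt f ((Over.map a).obj T)) : Pt (pullback.snd f a) T :=
  ⟨pullback.lift x.1 T.hom x.2, pullback.lift_snd _ _ _⟩

theorem ptDn_ptUp (x : Pt f ((Over.map a).obj T)) : ptDn a (ptUp a x) = x :=
  Subtype.ext (pullback.lift_fst _ _ _)

theorem ptDn_comp {T' : Over (Spec (CommRingCat.of K))} (g : T' ⟶ T) (x : Pt (pullback.snd f a) T) :
    ptDn a (x.comp g) = (ptDn a x).comp ((Over.map a).map g) :=
  Subtype.ext (Category.assoc _ _ _)

variable [SmoothOfRelativeDimension 1 f] [IsSeparated f]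

theorem secGraph_tr (x : Pt (pullback.snd f a) T) :
    (HilbD.secGraph (pullback.snd f a) T x.1 x.2).comap (eT f a T).hom =
      HilbD.secGraph f ((Over.map a).obj T) (ptDn a x).1 (ptDn a x).2 := by
  have hs : QuasiCompact (Picfga.SecGraph.sec (pullback.snd f a) T x.1 x.2) := inferInstance
  refine comap_ker_iso (Picfga.SecGraph.sec (pullback.snd f a) T x.1 x.2) _ _ ?_
  apply pullback.hom_ext
  · apply pullback.hom_ext
    · rw [Category.assoc, Category.assoc, eT_hom_fst_fst, pullback.lift_fst, pullback.lift_fst]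
      rfl
    · rw [Category.assoc, Category.assoc, eT_hom_fst_snd, pullback.lift_snd_assoc, pullback.lift_fst, x.2]
      exact Category.id_comp _
  · rw [Category.assoc, eT_hom_snd, pullback.lift_snd, pullback.lift_snd]
    rfl

/-- **Graph classes under extension of the base field.** -/
theorem tr_gcl (x : Pt (pullback.snd f a) T) : tr a T (gcl (pullback.snd f a) x) = gcl f (ptDn a x) := by
  have h1 := secGraph_tr a x
  have h2 := isEff_secGraph (pullback.snd f a) x
  have h3 := isEff_secGraph f (ptDn a x)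
  rw [tr, gcl, gcl, pull_mk, mk_eq_iff]
  have h4 := Dix.IdealModCartier.pullback_idealMod (eT f a T).hom h2 (by rw [h1]; exact h3)
  rwa [h1] at h4

end tr

section deg

variable {k : Type u} [Field k] {X : Scheme.{u}} [X.Over (Spec (CommRingCat.of k))]
  [IsProper (X ↘ Spec (CommRingCat.of k))] [Smooth (X ↘ Spec (CommRingCat.of k))]
  [GeometricallyConnected (X ↘ Spec (CommRingCat.of k))]
  [SmoothOfRelativeDimension 1 (X ↘ Spec (CommRingCat.of k))]

/-- The degree of the constant family. -/
theorem hasDeg_of_deg {c : Pic X} {m : ℤ} (hc : K532.CurvePic.deg k X c = m) :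
    HasDeg (X ↘ Spec (CommRingCat.of k)) c m := by
  intro T τ
  let f := X ↘ Spec (CommRingCat.of k)
  have key : ∀ c : Pic X, chiAt f T τ (NT f c T) = chiK f (fsr T.left τ ≫ T.hom)
      (pull (pullback.fst f (fsr T.left τ ≫ T.hom)) c) := by
    intro c
    rw [chiAt, chiPt, NT, ← pull_comp]
    congr 2
    exact congrArg pull (Fga.RigGrp.XTmap_fst f _)
  have h1 := key c
  have h2 := key 1
  rw [NT, map_one, map_one] at h2
  rw [h1, h2]
  have h3 := K531.ThetaLoc.chiK_pull_fst (C := X) (fsr T.left τ ≫ T.hom) c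
  rw [hc] at h3
  exact sub_eq_iff_eq_add'.1 h3

end deg

end K317.TrGcl
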