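import Groth.Agent.Jac.K317.ThetaBC
import Groth.Agent.JacVar.K532.ThetaIdeal

/-!
# Changing the degree of the moduli problem

* `twHom B hB hd ψ₀`: the classifying map of degree `d = d₀ + b` obtained from one of degree `d₀` by dividing by the class
  `B` of degree `b`; `psiCl_twHom`, `isBestApprox_twHom`.
* `exists_iso_of_best`, `exists_iso_tw`.
* `jumpLocus_tw`, `thetaLocus_tw`, `isThetaLB_tw`: transport of the theta divisor.
-/

set_option autoImplicit false
universe u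
open CategoryTheory CategoryTheory.Limits AlgebraicGeometry Opposite TopologicalSpace MonoidalCategory
  CartesianMonoidalCategory MonObj

namespace K317.Trans

open Groth.Agent Groth.Agent.Grpsch Groth.Agent.Grpsch.PicGrp Groth.Agent.Fga.RigGrp Groth.Agent.Fga.JacSum
open Groth.Agent.Fga.JacAlg Groth.Agent.Picfga.ChiDef Groth.Agent.Fga.JacSurj
open K914.Cls K914.Points K914.HField K914.PtDrop K317.JumpPts K317.ThetaBC Groth.Agent.Fdesc.LocGen

variable {k : Type u} [Field k] {X : Scheme.{u}} {f : X ⟶ Spec (CommRingCat.of k)}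
  [IsProper f] [Smooth f] [GeometricallyConnected f] [SmoothOfRelativeDimension 1 f]
  {d d₀ b : ℤ}

theorem hasDeg_inv {B : Pic X} (hB : HasDeg f B b) : HasDeg f B⁻¹ (-b) := by
  intro T
  have h := (hB T).inv
  rwa [NT, map_inv]

theorem hasDeg_one : HasDeg f (1 : Pic X) 0 := by
  intro T
  rw [NT, map_one]
  exact K914.Fine.isDeg_one

theorem hasDeg_mul {B B' : Pic X} {b' : ℤ} (hB : HasDeg f B b) (hB' : HasDeg f B' b') :
    HasDeg f (B * B') (b + b') := by
  intro T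
  rw [NT, map_mul]
  exact (hB T).mul (hB' T)

section tw

variable (B : Pic X) (hB : HasDeg f B b) (hd : d = d₀ + b)

include hB hd in
theorem isDeg_div {T : Over (Spec (CommRingCat.of k))} {c : Pic (PicF.XT f T)} (hc : IsDeg f d c) :
    IsDeg f d₀ (c * (NT f B T)⁻¹) :=
  (hc.mul (hB T).inv).congr (by rw [hd]; ring) rfl

variable {J : Over (Spec (CommRingCat.of k))} (ψ₀ : (ModFun.PicDeg f d₀).Hom ⊤ J)

/-- The classifying map of degree `d = d₀ + b`. -/
noncomputable def twHom : (ModFun.PicDeg f d).Hom ⊤ J where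
  app T L _ hL := psiCl ψ₀ (mk L (isInvertible_of_ok hL) * (NT f B T)⁻¹) (isDeg_div B hB hd (isDeg_of_ok hL))
  natural := by
    intro T T' g L _ _ hL hL'
    rw [comp_psiCl]
    apply psiCl_eq'
    rw [map_mul, map_inv, pull_NT, pull_mk]
    rfl
  resp := by
    intro T L L' _ hL hL' hr
    obtain ⟨M, hM, ⟨e⟩⟩ := hr
    have hr' : mk L' (isInvertible_of_ok hL') = mk L (isInvertible_of_ok hL) *
        pull (PicF.XTproj f T) (mk M hM) := by
      rw [pull_mk, mk_mul_mk]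
      exact mk_congr e
    refine psiCl_mul_proj ψ₀ _ _ (mk M hM) _ _ ?_
    rw [hr', mul_right_comm]

theorem psiCl_twHom {T : Over (Spec (CommRingCat.of k))} (c : Pic (PicF.XT f T)) (hc : IsDeg f d c) :
    psiCl (twHom B hB hd ψ₀) c hc = psiCl ψ₀ (c * (NT f B T)⁻¹) (isDeg_div B hB hd hc) := by
  obtain ⟨L, hL, rfl⟩ := exists_mk c
  rw [← app_eq (twHom B hB hd ψ₀) trivial ((ok_iff hL).2 hc) _ hc rfl]
  rfl

/-- The best approximation property in terms of classes. -/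
theorem isBestApprox_iff {J : Over (Spec (CommRingCat.of k))} (ψ : (ModFun.PicDeg f d).Hom ⊤ J) :
    ModFun.IsBestApprox ⊤ (ModFun.PicDeg f d) J ψ ↔ ∀ (N : Over (Spec (CommRingCat.of k)))
      (φ : (ModFun.PicDeg f d).Hom ⊤ N), ∃! g : J ⟶ N, ∀ (T : Over (Spec (CommRingCat.of k)))
        (c : Pic (PicF.XT f T)) (hc : IsDeg f d c), psiCl φ c hc = psiCl ψ c hc ≫ g := by
  have key : ∀ (N : Over (Spec (CommRingCat.of k))) (φ : (ModFun.PicDeg f d).Hom ⊤ N) (g : J ⟶ N),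
      (∀ (T : Over (Spec (CommRingCat.of k))) (x : (ModFun.PicDeg f d).Fam T) (hT : (⊤ : ObjectProperty _) T)
        (hx : (ModFun.PicDeg f d).ok T x), φ.app T x hT hx = ψ.app T x hT hx ≫ g) ↔
      (∀ (T : Over (Spec (CommRingCat.of k))) (c : Pic (PicF.XT f T)) (hc : IsDeg f d c),
        psiCl φ c hc = psiCl ψ c hc ≫ g) := by
    intro N φ g
    constructor
    · intro h T c hc
      obtain ⟨L, hL, rfl⟩ := exists_mk c
      rw [← app_eq φ trivial ((ok_iff hL).2 hc) _ hc rfl, ← app_eq ψ trivial ((ok_iff hL).2 hc) _ hc rfl]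
      exact h T L trivial _
    · intro h T L hT hL
      rw [app_eq' φ hT hL, app_eq' ψ hT hL]
      exact h T _ _
  constructor
  · intro h N φ
    obtain ⟨g, hg, hu⟩ := h N φ
    exact ⟨g, (key N φ g).1 hg, fun g' hg' => hu g' ((key N φ g').2 hg')⟩
  · intro h N φ
    obtain ⟨g, hg, hu⟩ := h N φ
    exact ⟨g, (key N φ g).2 hg, fun g' hg' => hu g' ((key N φ g').1 hg')⟩

theorem isBestApprox_twHom (h : ModFun.IsBestApprox ⊤ (ModFun.PicDeg f d₀) J ψ₀) :
    ModFun.IsBestApprox ⊤ (ModFun.PicDeg f d) J (twHom B hB hd ψ₀) := by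
  rw [isBestApprox_iff] at h ⊢
  intro N φ
  have hd' : d₀ = d + -b := by rw [hd]; ring
  have hB' := hasDeg_inv hB
  have hNT : ∀ T : Over (Spec (CommRingCat.of k)), NT f B⁻¹ T = (NT f B T)⁻¹ := fun T => by rw [NT, NT, map_inv]
  have key : ∀ g : J ⟶ N,
      (∀ (T : Over (Spec (CommRingCat.of k))) (c : Pic (PicF.XT f T)) (hc : IsDeg f d₀ c),
        psiCl (twHom B⁻¹ hB' hd' φ) c hc = psiCl ψ₀ c hc ≫ g) ↔
      (∀ (T : Over (Spec (CommRingCat.of k))) (c : Pic (PicF.XT f T)) (hc : IsDeg f d c),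
        psiCl φ c hc = psiCl (twHom B hB hd ψ₀) c hc ≫ g) := by
    intro g
    constructor
    · intro h T c hc
      have h1 := h T (c * (NT f B T)⁻¹) (isDeg_div B hB hd hc)
      rw [psiCl_twHom] at h1
      rw [psiCl_twHom, ← h1]
      apply psiCl_eq'
      rw [hNT, inv_inv, inv_mul_cancel_right]
    · intro h T c hc
      have hc' : IsDeg f d (c * NT f B T) := (hc.mul (hB T)).congr hd.symm rfl
      have h1 := h T (c * NT f B T) hc'
      rw [psiCl_twHom] at h1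
      rw [psiCl_twHom]
      refine Eq.trans (Eq.trans (psiCl_eq' φ ?_ _ hc') h1) ?_
      · rw [hNT, inv_inv]
      · congr 1
        apply psiCl_eq'
        rw [mul_inv_cancel_right]
  obtain ⟨g, hg, hu⟩ := h N (twHom B⁻¹ hB' hd' φ)
  exact ⟨g, (key g).1 hg, fun g' hg' => hu g' ((key g').2 hg')⟩

end tw

/-- Two best approximations are isomorphic. -/
theorem exists_iso_of_best {J J' : Over (Spec (CommRingCat.of k))} {ψ : (ModFun.PicDeg f d).Hom ⊤ J}
    {ψ' : (ModFun.PicDeg f d).Hom ⊤ J'} (h : ModFun.IsBestApprox ⊤ (ModFun.PicDeg f d) J ψ)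
    (h' : ModFun.IsBestApprox ⊤ (ModFun.PicDeg f d) J' ψ') :
    ∃ e : J ≅ J', ∀ (T : Over (Spec (CommRingCat.of k))) (c : Pic (PicF.XT f T)) (hc : IsDeg f d c),
      psiCl ψ c hc ≫ e.hom = psiCl ψ' c hc := by
  rw [isBestApprox_iff] at h h'
  obtain ⟨a, ha, -⟩ := h J' ψ'
  obtain ⟨b, hb, -⟩ := h' J ψ
  have hab : a ≫ b = 𝟙 J := by
    obtain ⟨c, hc, huc⟩ := h J ψ
    rw [huc (a ≫ b) fun T L hT => by rw [← Category.assoc, ← ha, ← hb],
      huc (𝟙 J) fun T L hT => by rw [Category.comp_id]]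
  have hba : b ≫ a = 𝟙 J' := by
    obtain ⟨c, hc, huc⟩ := h' J' ψ'
    rw [huc (b ≫ a) fun T L hT => by rw [← Category.assoc, ← hb, ← ha],
      huc (𝟙 J') fun T L hT => by rw [Category.comp_id]]
  exact ⟨⟨a, b, hab, hba⟩, fun T c hc => (ha T c hc).symm⟩

/-- A coarse moduli scheme of degree `d` and one of degree `d₀` are isomorphic. -/
theorem exists_iso_tw (B : Pic X) (hB : HasDeg f B b) (hd : d = d₀ + b) {J J₀ : Over (Spec (CommRingCat.of k))}
    {ψ : (ModFun.PicDeg f d).Hom ⊤ J} {ψ₀ : (ModFun.PicDeg f d₀).Hom ⊤ J₀}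
    (h : ModFun.IsBestApprox ⊤ (ModFun.PicDeg f d) J ψ) (h₀ : ModFun.IsBestApprox ⊤ (ModFun.PicDeg f d₀) J₀ ψ₀) :
    ∃ e : J ≅ J₀, ∀ (T : Over (Spec (CommRingCat.of k))) (c : Pic (PicF.XT f T)) (hc : IsDeg f d c),
      psiCl ψ c hc ≫ e.hom = psiCl ψ₀ (c * (NT f B T)⁻¹) (isDeg_div B hB hd hc) := by
  obtain ⟨e, he⟩ := exists_iso_of_best h (isBestApprox_twHom B hB hd ψ₀ h₀)
  exact ⟨e, fun T c hc => by rw [he, psiCl_twHom]⟩

section jump

variable {B : Pic X} (hB : HasDeg f B b) (hd : d = d₀ + b) {J J₀ : Over (Spec (CommRingCat.of k))}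
  {ψ : (ModFun.PicDeg f d).Hom ⊤ J} {ψ₀ : (ModFun.PicDeg f d₀).Hom ⊤ J₀} (e : J ≅ J₀)
  (he : ∀ (T : Over (Spec (CommRingCat.of k))) (c : Pic (PicF.XT f T)) (hc : IsDeg f d c),
      psiCl ψ c hc ≫ e.hom = psiCl ψ₀ (c * (NT f B T)⁻¹) (isDeg_div B hB hd hc))
  {M M₀ : X.Modules} (hM : PicF.IsInvertible M) (hM₀ : PicF.IsInvertible M₀) (hMM : mk M₀ hM₀ = mk M hM * B)

include he hM hMM

/-- Transport of the jump locus. -/
theorem jumpLocus_tw : Jac.jumpLocus f d₀ ψ₀ M₀ = e.inv.left ⁻¹' (Jac.jumpLocus f d ψ M) := by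
  have e1 : ∀ y : J.left, e.inv.left (e.hom.left y) = y := fun y => by
    rw [← Scheme.Hom.comp_apply, ← Over.comp_left, e.hom_inv_id]; rfl
  have e2 : ∀ y : J₀.left, e.hom.left (e.inv.left y) = y := fun y => by
    rw [← Scheme.Hom.comp_apply, ← Over.comp_left, e.inv_hom_id]; rfl
  have hNT : ∀ (T : Over (Spec (CommRingCat.of k))), NT f (mk M₀ hM₀) T = NT f (mk M hM) T * NT f B T := by
    intro T
    rw [NT, hMM, map_mul]
    rfl
  ext y
  rw [Set.mem_preimage, mem_jumpLocus_iff' ψ₀ M₀ hM₀, mem_jumpLocus_iff' ψ M hM]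
  constructor
  · rintro ⟨Ω, _, _, t, c, hc, h, p, rfl⟩
    have hc' : IsDeg f d (c * NT f B (Over.mk t)) := (hc.mul (hB _)).congr hd.symm rfl
    refine ⟨Ω, inferInstance, inferInstance, t, c * NT f B (Over.mk t), hc', ?_, p, ?_⟩
    · rwa [_root_.mul_assoc, _root_.mul_comm (NT f B (Over.mk t)), ← hNT]
    · have h1 := he (Over.mk t) (c * NT f B (Over.mk t)) hc'
      have h2 : psiCl ψ (c * NT f B (Over.mk t)) hc' ≫ e.hom = psiCl ψ₀ c hc :=
        h1.trans (psiCl_eq' ψ₀ (mul_inv_cancel_right _ _) _ _)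
      have h3 : psiCl ψ (c * NT f B (Over.mk t)) hc' = psiCl ψ₀ c hc ≫ e.inv := by
        rw [← h2, Category.assoc, e.hom_inv_id, Category.comp_id]
      rw [h3]
      rfl
  · rintro ⟨Ω, _, _, t, c, hc, h, p, hp⟩
    refine ⟨Ω, inferInstance, inferInstance, t, c * (NT f B (Over.mk t))⁻¹, isDeg_div B hB hd hc, ?_, p, ?_⟩
    · rw [hNT, mul_comm (NT f (mk M hM) (Over.mk t)), ← _root_.mul_assoc, inv_mul_cancel_right]
      exact h
    · rw [← he (Over.mk t) c hc, ← e2 y, ← hp]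
      rfl

theorem thetaLocus_tw : Jac.thetaLocus f d₀ ψ₀ M₀ = e.inv.left ⁻¹' (Jac.thetaLocus f d ψ M) := by
  rw [Jac.thetaLocus, Jac.thetaLocus, jumpLocus_tw hB hd e he hM hM₀ hMM]
  have : IsIso e.inv.left := inferInstanceAs (IsIso ((Over.forget _).map e.inv))
  exact ((Scheme.homeoOfIso (asIso e.inv.left)).preimage_closure (Jac.jumpLocus f d ψ M)).symm

theorem ideal_tw : Scheme.IdealSheafData.vanishingIdeal ⟨Jac.thetaLocus f d₀ ψ₀ M₀, isClosed_closure⟩ =
    (Scheme.IdealSheafData.vanishingIdeal ⟨Jac.thetaLocus f d ψ M, isClosed_closure⟩).comap e.inv.left := by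
  have h1 : e.inv.left ≫ e.hom.left = 𝟙 _ := by rw [← Over.comp_left, e.inv_hom_id]; rfl
  have h2 : e.hom.left ≫ e.inv.left = 𝟙 _ := by rw [← Over.comp_left, e.hom_inv_id]; rfl
  rw [K532.ThetaIdeal.comap_vanishingIdeal_iso _ _ h1 h2]
  congr 1
  apply TopologicalSpace.Closeds.ext
  exact thetaLocus_tw hB hd e he hM hM₀ hMM

/-- **Transport of the theta line bundle.** -/
theorem isThetaLB_tw {Θ : J.left.Modules} (hΘ : Jac.IsThetaLB f d ψ M Θ) :
    Jac.IsThetaLB f d₀ ψ₀ M₀ ((Scheme.Modules.pullback e.inv.left).obj Θ) := by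
  have : IsIso e.inv.left := inferInstanceAs (IsIso ((Over.forget _).map e.inv))
  obtain ⟨h1, h2⟩ := hΘ
  have h3 : PicF.IsInvertible ((Scheme.Modules.pullback e.inv.left).obj Θ) := isInvertible_pullback _ h1
  have hI := Dix.IdealModCartier.isEffCartierIdeal_of_isInverseOf h2
  have hI' := Divis.EffCartier.isEff_comap_flat hI e.inv.left
  refine ⟨h3, ?_⟩
  have h4 := Dix.IdealModCartier.pullback_idealMod e.inv.left hI hI'
  have h5 : mk Θ h1 * mk _ (Dix.IdealModCartier.isInvertible_idealMod hI) = 1 := by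
    rw [mk_mul_mk, mk_eq_one_iff]
    exact h2
  have h6 := congrArg (pull e.inv.left) h5
  rw [map_mul, map_one, pull_mk, pull_mk] at h6
  have h7 : mk _ (isInvertible_pullback e.inv.left
      (Dix.IdealModCartier.isInvertible_idealMod hI)) = mk _ (Dix.IdealModCartier.isInvertible_idealMod hI') :=
    (mk_eq_iff _ _).2 h4
  have h8 : mk _ h3 * mk _ (Dix.IdealModCartier.isInvertible_idealMod hI') = 1 := by
    rw [← h7]
    exact h6
  rw [mk_mul_mk, mk_eq_one_iff] at h8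
  rw [ideal_tw hB hd e he hM hM₀ hMM]
  exact h8

end jump

end K317.Trans
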