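import Groth.Agent.Jac.K317.PullTheta
import Groth.Agent.Jac.K317.Trans
import Groth.Agent.Jac.K317.TrGcl

/-!
# `j^* Θ' ⊗ L ≅ Ω` over an algebraically closed field
-/

set_option autoImplicit false
universe u
open CategoryTheory CategoryTheory.Limits AlgebraicGeometry MonoidalCategory CartesianMonoidalCategory
open scoped MonObj

namespace K317.A133

open Groth.Agent Groth.Agent.Grpsch Groth.Agent.Grpsch.PicGrp Groth.Agent.Fga.RigGrp Groth.Agent.Fga.JacSum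
open Groth.Agent.Fga.JacAlg Groth.Agent.Picfga.ChiDef Groth.Agent.Fga.JacSurj
open K914.Cls K914.Points K317.JumpPts K317.ThetaBC K317.Trans K317.TrGcl Groth.Agent.Fdesc.LocGen
open Groth.Agent.Sga7.H732 K532.CurvePic K532.CurvePts K532.Wr K532.Dict

variable {k : Type u} [Field k] [IsAlgClosed k] {C : Scheme.{u}} [C.Over (Spec (CommRingCat.of k))]
  [IsProper (C ↘ Spec (CommRingCat.of k))] [Smooth (C ↘ Spec (CommRingCat.of k))]
  [GeometricallyConnected (C ↘ Spec (CommRingCat.of k))]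
  [SmoothOfRelativeDimension 1 (C ↘ Spec (CommRingCat.of k))]

theorem main (hdim : topologicalKrullDim C = 1) (g : ℕ) (hg : Curv2.genus k C = g) (hg1 : 1 ≤ g)
    {J' : Over (Spec (CommRingCat.of k))}
    {ψ' : (ModFun.PicDeg (C ↘ Spec (CommRingCat.of k)) ((g : ℤ) - 1)).Hom ⊤ J'}
    (hJ' : ModFun.IsCoarseModuli ⊤ (ModFun.PicDeg (C ↘ Spec (CommRingCat.of k)) ((g : ℤ) - 1)) J' ψ')
    {Θ' : J'.left.Modules}
    (hΘ' : Jac.IsThetaLB (C ↘ Spec (CommRingCat.of k)) ((g : ℤ) - 1) ψ' (Coh.structureModule C) Θ')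
    (L : C.Modules) (hL : PicF.IsInvertible L) (hLdeg : Curv2.deg k C L 1 = (g : ℤ) - 2)
    (c : Pic (PicF.XT (C ↘ Spec (CommRingCat.of k)) (Over.mk (C ↘ Spec (CommRingCat.of k)))))
    (hc : IsDeg (C ↘ Spec (CommRingCat.of k)) ((g : ℤ) - 1) c)
    (hcL : c * gcl (C ↘ Spec (CommRingCat.of k)) Abel.idPt =
      NT (C ↘ Spec (CommRingCat.of k)) (mk L hL) (Over.mk (C ↘ Spec (CommRingCat.of k))))
    (hΩ : PicF.IsInvertible (Omega.sheaf (C ↘ Spec (CommRingCat.of k)))) (p : C ⟶ J'.left)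
    (hpe : (psiCl ψ' c hc).left = p) :
    pull p (mk Θ' hΘ'.1) * mk L hL = mk (Omega.sheaf (C ↘ Spec (CommRingCat.of k))) hΩ := by
  let f := C ↘ Spec (CommRingCat.of k)
  have hXc := K532.Base.isSmoothProperCurve f hdim
  have hX := isCurve_of_isAlgClosed k C hXc
  have hint := hX.integral
  obtain ⟨x, -⟩ := exists_kpt hX (⊤ : C.Opens) ⟨genericPoint C, trivial⟩
  obtain ⟨σ, hσ⟩ := x
  obtain ⟨J₀, _, ξ₀, hp, hgi, h₀⟩ := K914.Fine.exists_isJac f σ hσ
  have hcomm : IsCommMonObj J₀ := isCommMonObj_of_isProper_of_geometricallyIntegral J₀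
  obtain ⟨j₀, hj₀⟩ := Abel.exists_abel h₀ hXc
  have hj₀' : IsAbel h₀ j₀ := hj₀
  have hn : gen k C = (g - 1) + 1 := by
    change Curv2.genus k C = _
    omega
  have hgen : (gen k C : ℤ) = g := by
    rw [hn]
    push_cast [Nat.cast_sub hg1]
    ring
  set q := pcl hX (sg hσ) with hq
  -- the class `B = L(σ)`
  have hdB : deg k C (mk L hL * q⁻¹) = (g : ℤ) - 1 := by
    rw [deg_mul hX, deg_inv hX, hq, deg_pcl, deg_mk k C hdim, hLdeg]
    ring
  have hB := hasDeg_of_deg hdB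
  let ψ₀ := K532.Fine.psi hdim h₀
  have hψ : K532.Setup.Compat f hdim σ hσ J₀ ψ₀ ξ₀ := fun T L hT hL => K532.Fine.pull_psi hdim h₀ hT hL
  obtain ⟨e, he⟩ := exists_iso_tw (mk L hL * q⁻¹) hB (show (g : ℤ) - 1 = 0 + ((g : ℤ) - 1) by ring) hJ'.2.1
    (K532.Fine.isBestApprox hdim h₀)
  obtain ⟨N₀, hN₀, hN₀B⟩ := exists_mk (mk L hL * q⁻¹)
  have hΘ₀ := isThetaLB_tw hB (show (g : ℤ) - 1 = 0 + ((g : ℤ) - 1) by ring) e he
    (isInvertible_structureModule (X := C)) hN₀ (by rw [← one_def, one_mul, hN₀B]) hΘ'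
  have hdeg₀ : deg k C (mk N₀ hN₀) = (gen k C : ℤ) - 1 := by rw [← hN₀B, hdB, hgen]
  have key := K317.PullTheta.pull_theta hX h₀ hj₀' hψ hn hN₀ hdeg₀ hΘ₀
  -- the Abel map
  have hj : psiCl ψ' c hc ≫ e.hom = j₀ := by
    apply Abel.cls_injective h₀
    have e1 : Abel.cls h₀ (Over.mk f) j₀ = acl f σ hσ Abel.idPt := by
      rw [← hj₀]
      congr 1
    rw [e1, he]
    obtain ⟨M, hM, hMc⟩ := exists_mk (c * (NT f (mk L hL * q⁻¹) (Over.mk f))⁻¹)
    have hMd : IsDeg f 0 (mk M hM) := by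
      rw [← hMc]
      exact isDeg_div _ hB (show (g : ℤ) - 1 = 0 + ((g : ℤ) - 1) by ring) hc
    have e2 : psiCl ψ₀ (c * (NT f (mk L hL * q⁻¹) (Over.mk f))⁻¹)
        (isDeg_div _ hB (show (g : ℤ) - 1 = 0 + ((g : ℤ) - 1) by ring) hc) =
        ψ₀.app (Over.mk f) M trivial ((ok_iff hM).2 hMd) :=
      (app_eq ψ₀ trivial ((ok_iff hM).2 hMd) _ _ hMc.symm).symm
    rw [e2, Abel.cls_apply, hψ]
    have e3 : K532.Fine.cls f hdim ((ok_iff hM).2 hMd) = mk M hM := rfl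
    have e4 : NT f (mk L hL * q⁻¹) (Over.mk f) = NT f (mk L hL) (Over.mk f) * (NT f q (Over.mk f))⁻¹ := by
      rw [NT, map_mul, map_inv]
      rfl
    have e5 : gcl f (Pt.ofSection hσ (Over.mk f)) = NT f q (Over.mk f) := by
      rw [K533.AbelAt.gcl_ofSection f hσ (K533.AbelAt.isInvertible_ker f hσ) (Over.mk f)]
      rfl
    rw [e3, ← hMc, acl, e5, e4, ← hcL]
    congr 1
    rw [mul_inv_rev, inv_inv, mul_inv_rev]
    generalize NT f q (Over.mk f) = z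
    generalize gcl f Abel.idPt = w
    rw [mul_comm z, ← mul_assoc, ← mul_assoc, mul_comm c, mul_assoc w⁻¹, mul_inv_cancel, mul_one]
  have hpull : pull p (mk Θ' hΘ'.1) = pull j₀.left (mk _ hΘ₀.1) := by
    have e1 : psiCl ψ' c hc = j₀ ≫ e.inv := by rw [← hj, Category.assoc, e.hom_inv_id, Category.comp_id]
    rw [← hpe, e1, Over.comp_left, pull_comp, pull_mk e.inv.left]
  rw [hpull, key, ← hN₀B, ← hq]
  change om hX * _ * _ * _ = om hX
  rw [mul_inv_rev, inv_inv]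
  generalize om hX = w
  generalize mk L hL = l
  rw [mul_assoc, mul_assoc, ← mul_assoc (q * l⁻¹), mul_comm q l⁻¹, mul_assoc l⁻¹, mul_inv_cancel, mul_one,
    inv_mul_cancel, mul_one]

end K317.A133
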