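import Groth.Agent.S0034
import Groth.Agent.Fga.HodgePush
import Groth.Agent.Jac.K914.Sc

/-!
# Cohomological invariants under an extension of the base field

`p : X' ⟶ X` the base change of `X / k` to the field extension `K / k`.

* `finrank_bc`, `eulerCharLE_bc`, `euler_bc`, `genus_bc`, `deg_bc`, `intNum_bc`.
-/

set_option autoImplicit false
universe u
open CategoryTheory CategoryTheory.Limits AlgebraicGeometry

namespace K317.FieldBC

open Groth.Agent

theorem isQCoh_structureModule (Y : Scheme.{u}) : Coh.IsQCoh (Coh.structureModule Y) :=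
  Ega2.QCohLocal.isQCoh_of_isInvertible (Fdesc.LocGen.isInvertible_structureModule (X := Y))

variable (k K : Type u) [Field k] [Field K] [Algebra k K] {X X' : Scheme.{u}} [X.Over (Spec (CommRingCat.of k))]
  [X'.Over (Spec (CommRingCat.of K))] [CompactSpace X] [QuasiSeparatedSpace X] (p : X' ⟶ X)
  (hp : IsPullback p (X' ↘ Spec (CommRingCat.of K)) (X ↘ Spec (CommRingCat.of k))
    (Spec.map (CommRingCat.ofHom (algebraMap k K))))

include hp

theorem finrank_bc (F : X.Modules) (hF : Coh.IsQCoh F) (F' : X'.Modules)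
    (e' : F' ≅ (Scheme.Modules.pullback p).obj F) (i : ℕ) :
    Module.finrank K (Coh.HH X' F' i) = Module.finrank k (Coh.HH X F i) := by
  obtain ⟨e⟩ := S0034.result k K X X' p hp F i
  have h6 := e.finrank_eq
  rw [Module.finrank_baseChange] at h6
  exact (CurvesA.HHMap.equivOver K e' i).finrank_eq.trans h6.symm

theorem eulerCharLE_bc (F : X.Modules) (hF : Coh.IsQCoh F) (F' : X'.Modules)
    (e' : F' ≅ (Scheme.Modules.pullback p).obj F) (d : ℕ) :
    FGA.eulerCharLE K X' F' d = FGA.eulerCharLE k X F d := by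
  rw [FGA.eulerCharLE, FGA.eulerCharLE]
  refine Finset.sum_congr rfl fun i _ => ?_
  rw [finrank_bc k K p hp F hF F' e']

theorem euler_bc (F : X.Modules) (hF : Coh.IsQCoh F) (F' : X'.Modules)
    (e' : F' ≅ (Scheme.Modules.pullback p).obj F) : Curv2.euler K X' F' = Curv2.euler k X F := by
  rw [Curv2.euler, Curv2.euler]
  refine finsum_congr fun i => ?_
  rw [finrank_bc k K p hp F hF F' e']

theorem genus_bc : Curv2.genus K X' = Curv2.genus k X :=
  finrank_bc k K p hp (Coh.structureModule X) (isQCoh_structureModule X) (Coh.structureModule X')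
    (Ega3B.PullTensor.nonempty_pullUnitIso p).some.symm 1

theorem deg_bc (F : X.Modules) (hF : Coh.IsQCoh F) (F' : X'.Modules)
    (e' : F' ≅ (Scheme.Modules.pullback p).obj F) (n : ℕ) : Curv2.deg K X' F' n = Curv2.deg k X F n := by
  rw [Curv2.deg, Curv2.deg, euler_bc k K p hp F hF F' e', euler_bc k K p hp (Coh.structureModule X)
    (isQCoh_structureModule X) (Coh.structureModule X') (Ega3B.PullTensor.nonempty_pullUnitIso p).some.symm]

theorem intNum_bc (d : ℕ) {r : ℕ} (M : Fin r → X.Modules) (hM : ∀ i, PicF.IsInvertible (M i)) :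
    FGA.intNum K X' d (fun i => (Scheme.Modules.pullback p).obj (M i)) (Coh.structureModule X') =
      FGA.intNum k X d M (Coh.structureModule X) := by
  rw [FGA.intNum, FGA.intNum]
  refine Finset.sum_congr rfl fun I _ => ?_
  congr 1
  have hw := Fga.HodgePush.isInvertible_word M hM I
  have hO : PicF.IsInvertible (Coh.structureModule X) := Fdesc.LocGen.isInvertible_structureModule
  obtain ⟨e⟩ := Fga.HodgePush.nonempty_pull_word p M hM I
  refine eulerCharLE_bc k K p hp _ (Ega2.QCohLocal.isQCoh_of_isInvertible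
    (Fdesc.LocGen.isInvertible_tensorMod hw hO)) _ ?_ d
  exact (Ega3B.PullTensor.pullTensorIso p hw hO ≪≫ Ega2.Tens.mapTIso e
    (Ega3B.PullTensor.nonempty_pullUnitIso p).some).symm

end K317.FieldBC
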