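import Groth.Agent.AbVar.K523.ThetaJ
import Groth.Agent.BunMod.K596.JacBridge
import Groth.Agent.Jac.K317.Trans
import Groth.Agent.Jac.K317.TrGcl
import Groth.Agent.Jac.K317.FieldBC

/-!
# `(Θ^g) = g!` and `h⁰(Θ) = 1` on the Picard scheme of degree `g - 1` over an algebraically closed field
-/

set_option autoImplicit false
universe u
open CategoryTheory CategoryTheory.Limits AlgebraicGeometry MonoidalCategory CartesianMonoidalCategory
open scoped MonObj

namespace K317.A135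

open Groth.Agent Groth.Agent.Grpsch Groth.Agent.Grpsch.PicGrp Groth.Agent.Fga.RigGrp Groth.Agent.Fga.JacSum
open Groth.Agent.Fga.JacAlg Groth.Agent.Picfga.ChiDef Groth.Agent.Fga.JacSurj
open K914.Cls K914.Points K317.JumpPts K317.ThetaBC K317.Trans K317.TrGcl Groth.Agent.Fdesc.LocGen
open Groth.Agent.Sga7.H732 K532.CurvePic K532.CurvePts K532.Wr K532.Dict

variable {k : Type u} [Field k] [IsAlgClosed k] {C : Scheme.{u}} [C.Over (Spec (CommRingCat.of k))]
  [IsProper (C ↘ Spec (CommRingCat.of k))] [Smooth (C ↘ Spec (CommRingCat.of k))]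
  [GeometricallyConnected (C ↘ Spec (CommRingCat.of k))]
  [SmoothOfRelativeDimension 1 (C ↘ Spec (CommRingCat.of k))]

theorem main (hdim : topologicalKrullDim C = 1) (g : ℕ) (hg : Curv2.genus k C = g) (hg1 : 1 ≤ g)
    {J' : Over (Spec (CommRingCat.of k))}
    {ψ' : (ModFun.PicDeg (C ↘ Spec (CommRingCat.of k)) ((g : ℤ) - 1)).Hom ⊤ J'}
    (hJ' : ModFun.IsCoarseModuli ⊤ (ModFun.PicDeg (C ↘ Spec (CommRingCat.of k)) ((g : ℤ) - 1)) J' ψ')
    {Θ' : J'.left.Modules}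
    (hΘ' : Jac.IsThetaLB (C ↘ Spec (CommRingCat.of k)) ((g : ℤ) - 1) ψ' (Coh.structureModule C) Θ')
    (Θinv : J'.left.Modules) (hi : PicF.IsInvertible Θinv)
    (hinv : Nonempty (CohB1.tensorMod Θ' Θinv ≅ Coh.structureModule J'.left)) :
    IsProper J'.hom ∧ @FGA.intNum k _ J'.left ⟨J'.hom⟩ g g (fun _ : Fin g => Θinv) (Coh.structureModule J'.left) =
      (Nat.factorial g : ℤ) ∧
      letI : J'.left.Over (Spec (CommRingCat.of k)) := ⟨J'.hom⟩
      Module.finrank k (Coh.HH J'.left Θ' 0) = 1 := by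
  let f := C ↘ Spec (CommRingCat.of k)
  have hXc := K532.Base.isSmoothProperCurve f hdim
  have hX := isCurve_of_isAlgClosed k C hXc
  have hint := hX.integral
  obtain ⟨x, -⟩ := exists_kpt hX (⊤ : C.Opens) ⟨genericPoint C, trivial⟩
  obtain ⟨σ, hσ⟩ := x
  have hpJ' : IsProper J'.hom := K914.Fine.isProper_of_coarse f σ hσ hJ'
  obtain ⟨J₀, _, ξ₀, hp, hgi, h₀⟩ := K914.Fine.exists_isJac f σ hσ
  have hcomm : IsCommMonObj J₀ := isCommMonObj_of_isProper_of_geometricallyIntegral J₀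
  set q := pcl hX (sg hσ) with hq
  -- the class `B` of degree `g - 1`
  have hdB : deg k C (q⁻¹ ^ (g - 1)) = (g : ℤ) - 1 := by
    rw [deg_pow hX, deg_inv hX, hq, deg_pcl]
    push_cast [Nat.cast_sub hg1]
    ring
  have hB := hasDeg_of_deg hdB
  let ψ₀ := K532.Fine.psi hdim h₀
  obtain ⟨e, he⟩ := exists_iso_tw (q⁻¹ ^ (g - 1)) hB (show (g : ℤ) - 1 = 0 + ((g : ℤ) - 1) by ring) hJ'.2.1
    (K532.Fine.isBestApprox hdim h₀)
  obtain ⟨N₀, hN₀, hN₀B⟩ := exists_mk (q⁻¹ ^ (g - 1))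
  have hΘ₀ := isThetaLB_tw hB (show (g : ℤ) - 1 = 0 + ((g : ℤ) - 1) by ring) e he
    (isInvertible_structureModule (X := C)) hN₀ (by rw [← one_def, one_mul, hN₀B]) hΘ'
  have hdeg₀ : Curv2.deg k C N₀ 1 = (g : ℤ) - 1 := by
    rw [← deg_mk k C hdim hN₀, ← hN₀B, hdB]
  have hJ₀ : Jac.IsJacobian f ⊤ J₀ ψ₀ := BunMod.K596.JacBridge.isJacobian_psi h₀ hdim
  have h0 := K532.ThetaH0.theta_h0 hdim hJ₀ g hg hg1 N₀ hN₀ hdeg₀ _ hΘ₀
  have ha := K532.ThetaAmple.theta_ample hdim hJ₀ g hg hg1 N₀ hN₀ hdeg₀ _ hΘ₀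
  have hsm : Smooth J₀.hom := AbBC.smooth_hom J₀
  have hd := K523.ThetaJ.dim_eq hdim g hg h₀
  have hchi := K523.ThetaJ.chi_eq_one hdim hJ₀ g hg hg1 N₀ hN₀ hdeg₀ _ hΘ₀ hd ha
  have hM := isInvertible_pullback e.inv.left hi
  have hLM : Nonempty (CohB1.tensorMod ((Scheme.Modules.pullback e.inv.left).obj Θ')
      ((Scheme.Modules.pullback e.inv.left).obj Θinv) ≅ Coh.structureModule J₀.left) := by
    obtain ⟨e1⟩ := hinv
    exact ⟨(Ega3B.PullTensor.pullTensorIso e.inv.left hΘ'.1 hi).symm ≪≫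
      (Scheme.Modules.pullback e.inv.left).mapIso e1 ≪≫ (Ega3B.PullTensor.nonempty_pullUnitIso e.inv.left).some⟩
  have hI := K523.ThetaPow.intNum_eq g hd _ ((Scheme.Modules.pullback e.inv.left).obj Θinv) ha.1 hLM
  rw [hchi, mul_one] at hI
  -- transport
  let _ : J'.left.Over (Spec (CommRingCat.of k)) := ⟨J'.hom⟩
  let _ : J₀.left.Over (Spec (CommRingCat.of k)) := ⟨J₀.hom⟩
  have hc1 : CompactSpace J'.left := (quasiCompact_iff_compactSpace (f := J'.hom)).mp inferInstance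
  have hc2 : QuasiSeparatedSpace J'.left := quasiSeparatedSpace_of_quasiSeparated J'.hom
  have hiso : IsIso e.inv.left := inferInstanceAs (IsIso ((Over.forget _).map e.inv))
  have hpb : IsPullback e.inv.left (J₀.left ↘ Spec (CommRingCat.of k)) (J'.left ↘ Spec (CommRingCat.of k))
      (Spec.map (CommRingCat.ofHom (algebraMap k k))) := by
    have h5 : Spec.map (CommRingCat.ofHom (algebraMap k k)) = 𝟙 (Spec (CommRingCat.of k)) := Spec.map_id _
    rw [h5]
    refine IsPullback.of_horiz_isIso ⟨?_⟩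
    rw [Category.comp_id]
    exact Over.w e.inv
  refine ⟨hpJ', ?_, ?_⟩
  · refine (K317.FieldBC.intNum_bc k k e.inv.left hpb g (fun _ : Fin g => Θinv) fun _ => hi).symm.trans ?_
    exact hI.symm
  · refine (K317.FieldBC.finrank_bc k k e.inv.left hpb Θ' (Ega2.QCohLocal.isQCoh_of_isInvertible hΘ'.1) _
      (Iso.refl _) 0).symm.trans ?_
    exact h0

end K317.A135
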