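import Groth.Agent.Jac.K317.ShEx
import Groth.Agent.AbDual.K732.BC
import Groth.Agent.Jac.K914.Sc

/-!
# Base change of coarse moduli of line bundles of degree `d` along a field extension

`a : Spec K ⟶ Spec k`, `f : X ⟶ Spec k`.

* `chiAt_tr`, `isDeg_tr`: degrees after base change.
* `psiK a ψ : (ModFun.PicDeg (pullback.snd f a) d).Hom ⊤ (Red.bc a J)`; `psiCl_psiK`.
* `isSh_psiK`, `isCoarse_psiK`, `isJacobian_psiK`.
-/

set_option autoImplicit false
universe u
open CategoryTheory CategoryTheory.Limits AlgebraicGeometry Opposite TopologicalSpace MonoidalCategory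
  CartesianMonoidalCategory MonObj

namespace K317.CoarseBC

open Groth.Agent Groth.Agent.Grpsch Groth.Agent.Grpsch.PicGrp Groth.Agent.Fga.RigGrp
open Groth.Agent.Fga.JacAlg Groth.Agent.Picfga.ChiDef Groth.Agent.Fga.JacSurj
open Groth.Agent.Ega3A.PicDiv Groth.Agent.Ega3A.PicEtSh Groth.Agent.Ega3A.PicSheaf Groth.Agent.Ega3A.PicLocBase
open K914.Cls K317.ShRep K732.BC

variable {k : Type u} [Field k] {X : Scheme.{u}} {f : X ⟶ Spec (CommRingCat.of k)}
  {K : Type u} [Field K] (a : Spec (CommRingCat.of K) ⟶ Spec (CommRingCat.of k))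

section chi

variable [IsProper f]

/-- The Euler characteristic of the transported module. -/
theorem chiM_tr {L : Type u} [Field L] (t : Spec (CommRingCat.of L) ⟶ Spec (CommRingCat.of K))
    (M : (PicF.XT (pullback.snd f a) (Over.mk t)).Modules) (hM : Coh.IsQCoh M) :
    chiM f (t ≫ a) ((Scheme.Modules.pullback (eT f a (Over.mk t)).hom).obj M) = chiM (pullback.snd f a) t M := by
  let _ := overK (pullback.snd f a) t
  let _ := overK f (t ≫ a)
  have h1 : CompactSpace (PicF.XT (pullback.snd f a) (Over.mk t)) := by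
    have : QuasiCompact (PicF.XTproj (pullback.snd f a) (Over.mk t)) :=
      inferInstanceAs (QuasiCompact (pullback.snd (pullback.snd f a) (Over.mk t).hom))
    exact (quasiCompact_iff_compactSpace (PicF.XTproj (pullback.snd f a) (Over.mk t))).1 inferInstance
  have h2 : QuasiSeparatedSpace (PicF.XT (pullback.snd f a) (Over.mk t)) := by
    have : QuasiSeparated (PicF.XTproj (pullback.snd f a) (Over.mk t)) :=
      inferInstanceAs (QuasiSeparated (pullback.snd (pullback.snd f a) (Over.mk t).hom))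
    exact (quasiSeparated_iff_quasiSeparatedSpace (PicF.XTproj (pullback.snd f a) (Over.mk t))).1 inferInstance
  rw [chiM, chiM, FGA.eulerCharLE, FGA.eulerCharLE]
  refine Finset.sum_congr rfl fun i _ => ?_
  congr 2
  exact @K914.Sc.finrank_iso L _ (PicF.XT (pullback.snd f a) (Over.mk t)) (PicF.XT f (Over.mk (t ≫ a)))
    (overK (pullback.snd f a) t) (overK f (t ≫ a)) (eT f a (Over.mk t)) (eT_hom_snd f a (Over.mk t)) h1 h2 M hM _
    (Iso.refl _) i

theorem chiK_tr {L : Type u} [Field L] (t : Spec (CommRingCat.of L) ⟶ Spec (CommRingCat.of K))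
    (c : Pic (PicF.XT (pullback.snd f a) (Over.mk t))) :
    chiK f (t ≫ a) (tr a (Over.mk t) c) = chiK (pullback.snd f a) t c := by
  obtain ⟨M, hM, rfl⟩ := exists_mk c
  exact chiM_tr a t M (Ega2.QCohLocal.isQCoh_of_isInvertible hM)

theorem chiAt_tr (T : Over (Spec (CommRingCat.of K))) (τ : T.left) (c : Pic (PicF.XT (pullback.snd f a) T)) :
    chiAt f ((Over.map a).obj T) τ (tr a T c) = chiAt (pullback.snd f a) T τ c := by
  have h1 := chiK_tr a (fsr T.left τ ≫ T.hom) (pu (pullback.snd f a) (ofHom T (fsr T.left τ)) c)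
  rw [tr_pu] at h1
  rw [chiAt, chiAt, chiPt, chiPt]
  refine Eq.trans ?_ h1
  exact chiK_congr (f := f) (T := (Over.map a).obj T) (Category.assoc _ _ _).symm
    (ofHom ((Over.map a).obj T) (fsr T.left τ)) ((Over.map a).map (ofHom T (fsr T.left τ))) rfl (tr a T c)

theorem tr_one (T : Over (Spec (CommRingCat.of K))) : tr (f := f) a T 1 = 1 := map_one _

theorem tr_mul (T : Over (Spec (CommRingCat.of K))) (c c' : Pic (PicF.XT (pullback.snd f a) T)) :
    tr (f := f) a T (c * c') = tr a T c * tr a T c' := map_mul _ _ _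

theorem isDeg_tr {d : ℤ} {T : Over (Spec (CommRingCat.of K))} {c : Pic (PicF.XT (pullback.snd f a) T)} :
    IsDeg f d (tr a T c) ↔ IsDeg (pullback.snd f a) d c := by
  refine forall_congr' fun τ => ?_
  rw [chiAt_tr, ← chiAt_tr a T τ 1, tr_one]

theorem tr_proj (T : Over (Spec (CommRingCat.of K))) (m : Pic T.left) :
    tr a T (pull (PicF.XTproj (pullback.snd f a) T) m) = pull (PicF.XTproj f ((Over.map a).obj T)) m := by
  rw [tr, ← pull_comp]
  exact congrArg (fun z => pull z m) (eT_hom_snd f a T)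

end chi

section psi

instance smooth1_snd [SmoothOfRelativeDimension 1 f] : SmoothOfRelativeDimension 1 (pullback.snd f a) :=
  have := smoothOfRelativeDimension_isStableUnderBaseChange.{u} 1
  MorphismProperty.pullback_snd f a inferInstance

variable [IsProper f] [Smooth f] [GeometricallyConnected f] [SmoothOfRelativeDimension 1 f]
  {d : ℤ} {J : Over (Spec (CommRingCat.of k))} (ψ : (ModFun.PicDeg f d).Hom ⊤ J)

/-- The base change of the classifying morphism. -/
noncomputable def psiK : (ModFun.PicDeg (pullback.snd f a) d).Hom ⊤ (Red.bc a J) where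
  app T L _ hL := up (k := a) (U := T) (psiCl ψ (tr a T (mk L (isInvertible_of_ok hL)))
    ((isDeg_tr a).2 (isDeg_of_ok hL)))
  natural := by
    intro T T' g L _ _ hL hL'
    rw [comp_up]
    congr 1
    have h1 := comp_psiCl ψ (dnMap a g) (tr a T (mk L (isInvertible_of_ok hL))) ((isDeg_tr a).2 (isDeg_of_ok hL))
    refine Eq.trans ?_ h1.symm
    apply psiCl_congr
    have h2 := tr_pu a g (mk L (isInvertible_of_ok hL))
    refine Eq.trans ?_ h2
    rw [pu, pull_mk]
    rfl
  resp := by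
    intro T L L' _ hL hL' hr
    obtain ⟨M, hM, ⟨e⟩⟩ := hr
    have hr' : mk L' (isInvertible_of_ok hL') = mk L (isInvertible_of_ok hL) *
        pull (PicF.XTproj (pullback.snd f a) T) (mk M hM) := by
      rw [pull_mk, mk_mul_mk]
      exact mk_congr e
    congr 1
    refine psiCl_mul_proj ψ _ _ (mk M hM) _ _ ?_
    rw [hr', tr_mul, tr_proj]
    rfl

theorem psiCl_psiK {T : Over (Spec (CommRingCat.of K))} (c : Pic (PicF.XT (pullback.snd f a) T))
    (hc : IsDeg (pullback.snd f a) d c) :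
    psiCl (psiK a ψ) c hc = up (k := a) (U := T) (psiCl ψ (tr a T c) ((isDeg_tr a).2 hc)) := by
  obtain ⟨L, hL, rfl⟩ := exists_mk c
  rw [← app_eq (psiK a ψ) trivial ((ok_iff hL).2 hc) _ hc rfl]
  rfl

variable {ψ}

theorem isSh_psiK (h : IsSh ψ) : IsSh (psiK a ψ) := by
  refine ⟨fun T g => ?_, fun T c c' hc hc' e => ?_⟩
  · obtain ⟨g, rfl⟩ := exists_up g
    obtain ⟨𝒰, c, hc, hU⟩ := h.surj ((Over.map a).obj T) g
    choose e he using fun i => tr_surjective (f := f) a ((ecovLift a 𝒰).V i)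
      (pu f (fromMap a (𝒰.V i) _ (ecovLift_w a 𝒰 i)) (c i))
    have hd : ∀ i, IsDeg f d (pu f (fromMap a (𝒰.V i) _ (ecovLift_w a 𝒰 i)) (c i)) := fun i => (hc i).pull _
    have hd' : ∀ i, IsDeg (pullback.snd f a) d (e i) := fun i => (isDeg_tr a).1 (by rw [he]; exact hd i)
    refine ⟨ecovLift a 𝒰, e, hd', fun i => ?_⟩
    rw [psiCl_psiK, comp_up]
    congr 1
    rw [psiCl_congr ψ (he i), psiCl_pu _ (c i) (hc i), hU, ← Category.assoc]
    congr 1
  · rw [psiCl_psiK, psiCl_psiK] at e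
    rw [← locEq_tr_iff a]
    exact h.inj _ _ _ _ _ (up_inj e)

theorem isCoarse_psiK (h : IsSh ψ) : ModFun.IsCoarseModuli ⊤ (ModFun.PicDeg (pullback.snd f a) d) (Red.bc a J) (psiK a ψ) :=
  (isSh_psiK a h).isCoarse

end psi

section jac

variable [IsProper f] [Smooth f] [GeometricallyConnected f] [SmoothOfRelativeDimension 1 f]
  {J : Over (Spec (CommRingCat.of k))} [GrpObj J] {ψ : (ModFun.PicDeg f 0).Hom ⊤ J}

omit [IsProper f] [Smooth f] [GeometricallyConnected f] [SmoothOfRelativeDimension 1 f] in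
/-- The group law in terms of classes. -/
theorem psiCl_mul [IsProper f] [Smooth f] [GeometricallyConnected f] [SmoothOfRelativeDimension 1 f]
    (hJ : Jac.IsJacobian f ⊤ J ψ) {T : Over (Spec (CommRingCat.of k))} (c c' : Pic (PicF.XT f T))
    (hc : IsDeg f 0 c) (hc' : IsDeg f 0 c') (h : IsDeg f 0 (c * c')) :
    psiCl ψ (c * c') h = psiCl ψ c hc * psiCl ψ c' hc' := by
  obtain ⟨L, hL, rfl⟩ := exists_mk c
  obtain ⟨M, hM, rfl⟩ := exists_mk c'
  obtain ⟨N, hN, e⟩ := exists_mk (mk L hL * mk M hM)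
  have hok : (ModFun.PicDeg f 0).ok T N := (ok_iff hN).2 (e ▸ h)
  have h1 := hJ.mul T trivial L M N ((ok_iff hL).2 hc) ((ok_iff hM).2 hc') hok
    ((mk_eq_iff hN _).1 (e.symm.trans (mk_mul_mk hL hM)))
  rw [← app_eq ψ trivial ((ok_iff hL).2 hc) _ hc rfl, ← app_eq ψ trivial ((ok_iff hM).2 hc') _ hc' rfl, ← h1]
  exact (app_eq ψ trivial hok _ _ e.symm).symm

theorem isJacobian_psiK (hJ : Jac.IsJacobian f ⊤ J ψ) (h : IsSh ψ) :
    Jac.IsJacobian (pullback.snd f a) ⊤ (Red.bc a J) (psiK a ψ) := by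
  refine ⟨isCoarse_psiK a h, fun T _ L M N hL hM hN e => ?_⟩
  have e1 : mk N (isInvertible_of_ok hN) = mk L (isInvertible_of_ok hL) * mk M (isInvertible_of_ok hM) := by
    rw [mk_mul_mk, mk_eq_iff]
    exact e
  rw [app_eq' (psiK a ψ) _ hL, app_eq' (psiK a ψ) _ hM, app_eq' (psiK a ψ) _ hN, psiCl_psiK, psiCl_psiK, psiCl_psiK,
    ← up_mul]
  congr 1
  have h2 := psiCl_mul hJ (tr a T (mk L (isInvertible_of_ok hL))) (tr a T (mk M (isInvertible_of_ok hM)))
    ((isDeg_tr a).2 (isDeg_of_ok hL)) ((isDeg_tr a).2 (isDeg_of_ok hM)) (by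
      rw [← tr_mul, ← e1]
      exact (isDeg_tr a).2 (isDeg_of_ok hN))
  rw [← h2]
  apply psiCl_congr
  rw [e1, tr_mul]

end jac

end K317.CoarseBC
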