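import Groth.Agent.Jac.K317.Trans
import Groth.Agent.S3226
import Groth.Agent.CurvSt.K903.Embed
import Groth.Agent.Picfga.CurveP1

/-!
# Coarse moduli schemes of line bundles on a curve over any field

* `exists_rep`: the étale Picard scheme; `isSh_of_coarse`, `isSeparated_of_coarse`.
-/

set_option autoImplicit false
universe u
open CategoryTheory CategoryTheory.Limits AlgebraicGeometry Opposite TopologicalSpace

namespace K317.CoarseSep

open Groth.Agent Groth.Agent.Grpsch Groth.Agent.Grpsch.PicGrp Groth.Agent.Fga.RigGrp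
open K914.Cls K317.ShRep K317.ShEx K317.Trans

variable {k : Type u} [Field k] {X : Scheme.{u}} {f : X ⟶ Spec (CommRingCat.of k)}
  [IsProper f] [Smooth f] [GeometricallyConnected f] [SmoothOfRelativeDimension 1 f]

variable (f) in
theorem exists_rep : ∃ P : Over (Spec (CommRingCat.of k)), PicRel.RepresentedBy f P ∧ IsSeparated P.hom ∧
    LocallyOfFiniteType P.hom := by
  have hint := K914.Curve.isIntegral f
  have hdim : topologicalKrullDim X = 1 := K914.Curve.curve_dim f
  have hgi := K914.Curve.geometricallyIntegral f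
  let _ : X.Over (Spec (CommRingCat.of k)) := ⟨f⟩
  have hpr : IsProper (X ↘ Spec (CommRingCat.of k)) := inferInstanceAs (IsProper f)
  obtain ⟨n, i, hi, hif⟩ := K903.Embed.exists_closedImmersion k X hdim.le
  have hif' : i ≫ CohB1.ProjSpaceOver.toBase n (Spec (CommRingCat.of k)) = f := hif
  have hfl : Flat (i ≫ CohB1.ProjSpaceOver.toBase n (Spec (CommRingCat.of k))) := by
    rw [hif']; infer_instance
  obtain ⟨P, h1, h2, h3⟩ := S3226.result (Spec (CommRingCat.of k)) X n i (by
    intro Ω _ _ s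
    rw [hif']
    exact GeometricallyIntegral.geometrically_isIntegral (f := f) _ _ _ (IsPullback.of_hasPullback f s))
  rw [hif'] at h1
  exact ⟨P, h1, h2, h3⟩

variable {d : ℤ} {J : Over (Spec (CommRingCat.of k))} {ψ : (ModFun.PicDeg f d).Hom ⊤ J}
  (hJ : ModFun.IsCoarseModuli ⊤ (ModFun.PicDeg f d) J ψ)

include hJ

theorem isSh_of_coarse : IsSh ψ := by
  obtain ⟨P₁⟩ := Picfga.CurveP1.exists_p1Data (K317.JumpPts.hX (f := f))
  obtain ⟨P, ⟨φ, hφ⟩, -, -⟩ := exists_rep f
  exact isSh_of_isCoarse P₁ ⟨P, φ, hφ⟩ hJ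

theorem isSeparated_of_coarse : IsSeparated J.hom := by
  obtain ⟨P₁⟩ := Picfga.CurveP1.exists_p1Data (K317.JumpPts.hX (f := f))
  obtain ⟨P, ⟨φ, hφ⟩, hsep, -⟩ := exists_rep f
  obtain ⟨U, χ, hχ, -⟩ := exists_isSh P₁ hφ d
  obtain ⟨e, -⟩ := exists_iso_of_best hJ.2.1 hχ.isCoarse.2.1
  have h1 : J.hom = e.hom.left ≫ U.ι ≫ P.hom := (Over.w e.hom).symm
  have h2 : IsIso e.hom.left := inferInstanceAs (IsIso ((Over.forget _).map e.hom))
  rw [h1]
  infer_instance

end K317.CoarseSep
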