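import Groth.Agent.Jac.K914.PtDrop
import Groth.Agent.Jac.K914.Points
import Groth.Agent.Jac.K914.Fine
import Groth.Agent.Jac.K317.CoarseBC

/-!
# The jump locus as the image of a power of the curve

`N : Pic X` of degree `m`, `n = d + m`.

* `NT f N T`: the pull-back of `N` to `X_T`.
* `mem_jumpLocus_iff`: points of the jump locus are the images of classes `∏ O(x_i) ⊗ N⁻¹` over geometric points.
* `qmap`, `range_qmap`: the jump locus is the image of `X^n ⟶ J`.
-/

set_option autoImplicit false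
universe u
open CategoryTheory CategoryTheory.Limits AlgebraicGeometry Opposite TopologicalSpace MonoidalCategory
  CartesianMonoidalCategory MonObj

namespace K317.JumpPts

open Groth.Agent Groth.Agent.Grpsch Groth.Agent.Grpsch.PicGrp Groth.Agent.Fga.RigGrp Groth.Agent.Fga.JacSum
open Groth.Agent.Fga.JacAlg Groth.Agent.Picfga.ChiDef Groth.Agent.Fga.JacSurj Groth.Agent.Ega3A.PicLocBase
open K914.Cls K914.Points K914.HField K914.PtDrop K317.CoarseBC K732.BC Groth.Agent.Fdesc.LocGen
open Groth.Agent.Ega2.SecCalc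

variable {k : Type u} [Field k] {X : Scheme.{u}} (f : X ⟶ Spec (CommRingCat.of k))

/-- The constant family. -/
noncomputable def NT (N : Pic X) (T : Over (Spec (CommRingCat.of k))) : Pic (PicF.XT f T) :=
  pull (pullback.fst f T.hom) N

theorem pull_NT (N : Pic X) {T T' : Over (Spec (CommRingCat.of k))} (g : T' ⟶ T) :
    pull (PicF.XTmap f g) (NT f N T) = NT f N T' := by
  rw [NT, NT, ← pull_comp, Fga.RigGrp.XTmap_fst]

section defs

variable [IsProper f] [Smooth f] [GeometricallyConnected f] [SmoothOfRelativeDimension 1 f]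

/-- `N` has degree `m`. -/
def HasDeg (N : Pic X) (m : ℤ) : Prop := ∀ T : Over (Spec (CommRingCat.of k)), IsDeg f m (NT f N T)

/-- The class `O(∑ x_i) ⊗ N⁻¹`. -/
noncomputable def cx (N : Pic X) {n : ℕ} {T : Over (Spec (CommRingCat.of k))} (x : Fin n → Pt f T) :
    Pic (PicF.XT f T) := (∏ i, (gcl f (x i))⁻¹) * (NT f N T)⁻¹

end defs

variable {f} [IsProper f] [Smooth f] [GeometricallyConnected f] [SmoothOfRelativeDimension 1 f]
  {N : Pic X} {m d : ℤ} {n : ℕ}

theorem hX : Curve.IsSmoothProperCurve k X f := by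
  have := K914.Curve.isIntegral f
  exact K914.Curve.isSmoothProperCurve f (K914.Curve.curve_dim f)

theorem isDeg_cx (hN : HasDeg f N m) (hn : (n : ℤ) = d + m) {T : Over (Spec (CommRingCat.of k))}
    (x : Fin n → Pt f T) : IsDeg f d (cx f N x) := by
  have h := (isDeg_sum hX x).mul (hN T).inv
  have e : (n : ℤ) + -m = d := by rw [hn]; ring
  rw [e] at h
  exact h

theorem pull_cx {T T' : Over (Spec (CommRingCat.of k))} (g : T' ⟶ T) (x : Fin n → Pt f T) :
    pull (PicF.XTmap f g) (cx f N x) = cx f N (fun i => (x i).comp g) := by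
  rw [cx, cx, map_mul, map_inv, pull_NT, map_prod]
  congr 1
  exact Finset.prod_congr rfl fun i _ => by rw [map_inv, pull_gcl]

/-- `h⁰` of an effective class is positive. -/
theorem hK_prod_pos' {K : Type u} [Field K] (t : Spec (CommRingCat.of K) ⟶ Spec (CommRingCat.of k))
    (x : Fin n → Pt f (Over.mk t)) : 0 < hK f t 0 (∏ i, (gcl f (x i))⁻¹) :=
  K914.HField.hK_prod_pos f t Finset.univ _ fun i _ => hK_gcl_inv_pos f t (x i)

/-- Nonvanishing of `H⁰` in terms of classes. -/
theorem not_subsingleton_iff {K : Type u} [Field K] (t : Spec (CommRingCat.of K) ⟶ Spec (CommRingCat.of k))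
    {L : (PicF.XT f (Over.mk t)).Modules} (hL : PicF.IsInvertible L) :
    ¬ Subsingleton (Coh.HH (PicF.XT f (Over.mk t)) L 0) ↔ 0 < hK f t 0 (mk L hL) := by
  let _ := overK f t
  have h1 : Module.Finite K (Coh.HH (PicF.XT f (Over.mk t)) L 0) := finite_HH f t hL 0
  rw [not_subsingleton_iff_nontrivial]
  exact (Module.finrank_pos_iff (R := K) (M := Coh.HH (PicF.XT f (Over.mk t)) L 0)).symm

variable {J : Over (Spec (CommRingCat.of k))} (ψ : (ModFun.PicDeg f d).Hom ⊤ J)

/-- Points of the jump locus, in terms of classes. -/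
theorem mem_jumpLocus_iff (M : X.Modules) (hM : PicF.IsInvertible M) (hN : HasDeg f (mk M hM) m)
    (hn : (n : ℤ) = d + m) (y : J.left) :
    y ∈ Jac.jumpLocus f d ψ M ↔ ∃ (Ω : Type u) (_ : Field Ω) (_ : IsAlgClosed Ω)
      (t : Spec (CommRingCat.of Ω) ⟶ Spec (CommRingCat.of k)) (x : Fin n → Pt f (Over.mk t))
      (p : Spec (CommRingCat.of Ω)), (psiCl ψ (cx f (mk M hM) x) (isDeg_cx hN hn x)).left p = y := by
  constructor
  · rintro ⟨Ω, _, _, t, hP, L, hL, hns, p, rfl⟩
    have hMt : PicF.IsInvertible ((Scheme.Modules.pullback (pullback.fst f t)).obj M) :=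
      Fdesc.LocGen.isInvertible_pullback _ hM
    have hLi := isInvertible_of_ok hL
    have hns' : 0 < hK f t 0 (mk _ (isInvertible_tensorMod hLi hMt)) :=
      (not_subsingleton_iff t (isInvertible_tensorMod hLi hMt)).1 hns
    have e1 : mk _ (isInvertible_tensorMod hLi hMt) = mk L hLi * NT f (mk M hM) (Over.mk t) := by
      rw [NT, pull_mk, mk_mul_mk]
      rfl
    have h1 : chiK f t (mk _ (isInvertible_tensorMod hLi hMt)) = chiK f t 1 + n := by
      rw [← isDeg_iff_chiK, e1, hn]
      exact (isDeg_of_ok hL).mul (hN _)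
    obtain ⟨s, hs⟩ := exists_section_of_pos f t _ hns'
    have := K914.Curve.geometricallyIntegral f
    obtain ⟨x, hx⟩ := exists_points_of_section hX t _ (isInvertible_tensorMod hLi hMt) (sec s ⊤)
      (fun h0 => hs (by
        rw [← homOf_sec s, h0]
        apply hom_ext_sec
        rw [sec_homOf, map_zero]
        rfl)) n h1
    refine ⟨Ω, inferInstance, inferInstance, t, x, p, ?_⟩
    have e2 : mk L hLi = cx f (mk M hM) x := by
      rw [cx, ← hx, e1, mul_inv_cancel_right]
    have e3 := app_eq ψ hP hL _ (isDeg_cx hN hn x) e2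
    rw [← e3]
  · rintro ⟨Ω, _, _, t, x, p, rfl⟩
    obtain ⟨L, hLi, e⟩ := exists_mk (cx f (mk M hM) x)
    have hL : (ModFun.PicDeg f d).ok (Over.mk t) L := (ok_iff hLi).2 (e ▸ isDeg_cx hN hn x)
    have hMt : PicF.IsInvertible ((Scheme.Modules.pullback (pullback.fst f t)).obj M) :=
      Fdesc.LocGen.isInvertible_pullback _ hM
    refine ⟨Ω, inferInstance, inferInstance, t, trivial, L, hL, ?_, p, ?_⟩
    · have h1 : mk _ (isInvertible_tensorMod hLi hMt) = ∏ i, (gcl f (x i))⁻¹ := by
        have e1 : mk _ (isInvertible_tensorMod hLi hMt) = mk L hLi * NT f (mk M hM) (Over.mk t) := by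
          rw [NT, pull_mk, mk_mul_mk]
          rfl
        rw [e1, ← e, cx, inv_mul_cancel_right]
      exact (not_subsingleton_iff t (isInvertible_tensorMod hLi hMt)).2 (by rw [h1]; exact hK_prod_pos' t x)
    · have e3 := app_eq ψ trivial hL _ (isDeg_cx hN hn x) e.symm
      exact congrArg (fun z : Over.mk t ⟶ J => z.left p) e3

/-- The morphism `X^n ⟶ J`, `(x_i) ↦ O(∑ x_i) ⊗ N⁻¹`. -/
noncomputable def qmap (N : Pic X) (hN : HasDeg f N m) (hn : (n : ℤ) = d + m) : Jac.powOver f n ⟶ J :=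
  psiCl ψ (cx f N (powPt f n)) (isDeg_cx hN hn _)

omit [IsProper f] [Smooth f] [GeometricallyConnected f] [SmoothOfRelativeDimension 1 f] in
theorem psiCl_eq' [IsProper f] [Smooth f] [GeometricallyConnected f] [SmoothOfRelativeDimension 1 f]
    {T : Over (Spec (CommRingCat.of k))} {c c' : Pic (PicF.XT f T)} (h : c = c') (hc : IsDeg f d c)
    (hc' : IsDeg f d c') : psiCl ψ c hc = psiCl ψ c' hc' := by
  subst h; rfl

theorem comp_qmap (hN : HasDeg f N m) (hn : (n : ℤ) = d + m) {T : Over (Spec (CommRingCat.of k))}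
    (z : T ⟶ Jac.powOver f n) :
    z ≫ qmap ψ N hN hn = psiCl ψ (cx f N fun i => (powPt f n i).comp z) (isDeg_cx hN hn _) := by
  rw [qmap, comp_psiCl ψ z _ (isDeg_cx hN hn _)]
  exact psiCl_eq' ψ (pull_cx z _) _ _

theorem cx_pts {T : Over (Spec (CommRingCat.of k))} (x : Fin n → Pt f T) :
    cx f N (fun i => (powPt f n i).comp (ptsHom x)) = cx f N x :=
  congrArg (cx f N) (funext fun i => powPt_comp_ptsHom x i)

theorem ptsHom_qmap (hN : HasDeg f N m) (hn : (n : ℤ) = d + m) {T : Over (Spec (CommRingCat.of k))}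
    (x : Fin n → Pt f T) : ptsHom x ≫ qmap ψ N hN hn = psiCl ψ (cx f N x) (isDeg_cx hN hn x) :=
  (comp_qmap ψ hN hn (ptsHom x)).trans (psiCl_eq' ψ (cx_pts x) _ _)

/-- The jump locus is the image of `X^n`. -/
theorem range_qmap (M : X.Modules) (hM : PicF.IsInvertible M) (hN : HasDeg f (mk M hM) m) (hn : (n : ℤ) = d + m) :
    Set.range (qmap ψ (mk M hM) hN hn).left = Jac.jumpLocus f d ψ M := by
  ext y
  rw [mem_jumpLocus_iff ψ M hM hN hn]
  constructor
  · rintro ⟨z, rfl⟩
    let Ω := AlgebraicClosure ((Jac.powOver f n).left.residueField z)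
    let v : Spec (CommRingCat.of Ω) ⟶ (Jac.powOver f n).left :=
      Spec.map (CommRingCat.ofHom (algebraMap ((Jac.powOver f n).left.residueField z) Ω)) ≫
        fsr (Jac.powOver f n).left z
    have hv : v (IsLocalRing.closedPoint Ω) = z := by
      rw [Scheme.Hom.comp_apply, fsr_apply]
    refine ⟨Ω, inferInstance, inferInstance, v ≫ (Jac.powOver f n).hom,
      fun i => (powPt f n i).comp (ofHom (Jac.powOver f n) v), IsLocalRing.closedPoint Ω, ?_⟩
    rw [← comp_qmap]
    change (qmap ψ (mk M hM) hN hn).left (v (IsLocalRing.closedPoint Ω)) = _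
    rw [hv]
  · rintro ⟨Ω, _, _, t, x, p, rfl⟩
    rw [← ptsHom_qmap ψ hN hn]
    exact ⟨(ptsHom x).left p, rfl⟩

end K317.JumpPts
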