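import Groth.Agent.AbVar.K513.Lam
import Groth.Agent.AbDual.K732.BC
import Groth.Agent.AbSch.K452.LamKer

/-!
# Base change of the homomorphism attached to an invertible module

* `isLambda_bc`: if `lam` is the morphism attached to `L` then its base change is the morphism attached to the base
  change of `L` (through the base-changed dual).
-/

set_option autoImplicit false
universe u
open CategoryTheory CategoryTheory.Limits AlgebraicGeometry Opposite TopologicalSpace MonoidalCategory
  CartesianMonoidalCategory MonObj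

namespace K317.LamBC

open Groth.Agent Groth.Agent.Grpsch Groth.Agent.Grpsch.PicGrp Groth.Agent.Fga.RigGrp K732.Cov K732.PicZero
  K732.RigSheaf K732.Dual K732.CubeSec K732.Transp K732.Prim K732.Bidual K732.BC

variable {S S' : Scheme.{u}} (a : S' ⟶ S) {A At : Over S} [GrpObj A]

/-- Evaluating the Mumford class at a pair of points. -/
theorem ev_mum (l : Pic A.left) {W : Over S} (x y : W ⟶ A) :
    ev x y (K452.LamPic.mum l (fst A A) (snd A A)) = K452.LamPic.mum l x y := by
  rw [ev_def]
  have h := K452.LamPic.pull_mum l (lift x y) (fst A A) (snd A A)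
  rw [lift_fst, lift_snd] at h
  exact h

theorem mum_up (l : Pic A.left) {W : Over S'} (x y : dn a W ⟶ A) :
    K452.LamPic.mum (A := Red.bc a A) (pull (pullback.fst A.hom a) l) (up x) (up y) = K452.LamPic.mum l x y := by
  unfold K452.LamPic.mum
  rw [← up_mul, ← pull_comp, ← pull_comp, ← pull_comp, up_left_fst, up_left_fst, up_left_fst]

/-- The base change of the Mumford class. -/
theorem bcXi_mum (l : Pic A.left) :
    bcXi a A A (K452.LamPic.mum l (fst A A) (snd A A)) =
      K452.LamPic.mum (A := Red.bc a A) (pull (pullback.fst A.hom a) l) (fst (Red.bc a A) (Red.bc a A))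
        (snd (Red.bc a A) (Red.bc a A)) := by
  refine ext_ev fun W x y ↦ ?_
  obtain ⟨x, rfl⟩ := exists_up x
  obtain ⟨y, rfl⟩ := exists_up y
  rw [ev_bcXi, ev_mum, ev_mum, mum_up]

/-- A class equal to the Mumford class is the class of a Lambda-module. -/
theorem isLambdaSheaf_of_mk_eq (L : A.left.Modules) (hL : PicF.IsInvertible L) (N : (PicF.XT A.hom A).Modules)
    (hN : PicF.IsInvertible N) (h : mk N hN = K452.LamPic.mum (mk L hL) (fst A A) (snd A A)) :
    AgPol.IsLambdaSheaf (μ[A].left : PicF.XT A.hom A ⟶ A.left) (fst A A).left (snd A A).left L N := by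
  have h2 : (fst A A * snd A A : A ⊗ A ⟶ A) = μ[A] := by
    rw [Hom.mul_def, CartesianMonoidalCategory.lift_fst_snd, Category.id_comp]
  unfold K452.LamPic.mum at h
  rw [h2] at h
  have h1 : (mk N hN : Pic (A ⊗ A).left) * pull (fst A A).left (mk L hL) * pull (snd A A).left (mk L hL) =
      pull μ[A].left (mk L hL) := by
    change (mk N hN : Pic (A ⊗ A).left) = _ at h
    rw [eq_mul_inv_iff_mul_eq, eq_mul_inv_iff_mul_eq] at h
    rw [mul_right_comm]
    exact h
  rw [pull_mk, pull_mk, pull_mk] at h1
  have h3 := (mk_mul_mk (X := (A ⊗ A).left) (L := N) (M := (Scheme.Modules.pullback (fst A A).left).obj L) hN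
    (Fdesc.LocGen.isInvertible_pullback _ hL))
  exact (mk_eq_iff _ _).1 ((((mk_mul_mk (X := (A ⊗ A).left) _ _).symm.trans (congrArg (· * _) h3.symm))).trans h1)

end K317.LamBC

namespace K317.LamBC

open Groth.Agent Groth.Agent.Grpsch Groth.Agent.Grpsch.PicGrp Groth.Agent.Fga.RigGrp K732.Cov K732.PicZero
  K732.RigSheaf K732.Dual K732.CubeSec K732.Transp K732.Prim K732.Bidual K732.BC

variable {k : Type u} [Field k] {K : Type u} [Field K]
  (a : Spec (CommRingCat.of K) ⟶ Spec (CommRingCat.of k)) {A At : Over (Spec (CommRingCat.of k))} [GrpObj A]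
  [GrpObj At] {φ : AgPol.DualMap A At}

/-- The Mumford class lies in `Pic⁰` of the fibres. -/
theorem mum_mem_pz [GeometricallyConnected A.hom] [LocallyOfFiniteType A.hom] [QuasiCompact A.hom]
    (l : Pic A.left) : (K452.LamPic.mum l (fst A A) (snd A A) : Pic (PicF.XT A.hom A)) ∈ pz A.hom A := by
  have h := K513.Lam.isPicZeroCl_lam (A := A) l A (𝟙 A)
  rw [Category.comp_id] at h
  exact isPicZeroCl_iff.1 h

/-- **Base change of the morphism attached to an invertible module.** -/
theorem isLambda_bc [GeometricallyConnected A.hom] [LocallyOfFiniteType A.hom] [QuasiCompact A.hom]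
    (hD : AbDual.IsDualAV Scheme.fppfPrecoverage A At φ) {L : A.left.Modules} (hL : PicF.IsInvertible L)
    {lam : A ⟶ At} (h : AgPol.IsLambda A At φ L lam) :
    AgPol.IsLambda (Red.bc a A) (Red.bc a At) (AgPol.bcDual a A At φ)
      ((Scheme.Modules.pullback (pullback.fst A.hom a)).obj L) ((Over.pullback a).map lam) := by
  obtain ⟨N, hN, hΛ, hφ⟩ := h
  have e1 := K452.LamKer.mk_eq_mum L hL N hN hΛ
  obtain ⟨N', hN', e2⟩ := exists_mk (bcXi a A A (mk N hN))
  refine ⟨N', hN', isLambdaSheaf_of_mk_eq (A := Red.bc a A) _ (Fdesc.LocGen.isInvertible_pullback _ hL) N' hN' ?_, ?_⟩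
  · rw [← e2, e1, bcXi_mum, pull_mk]
  · have h1 := cm_bcXi (k := a) hD (T := A) (c := mk N hN) (by rw [e1]; exact mum_mem_pz _)
    have h2 : cm φ (mk N hN) = lam := hφ
    rw [h2] at h1
    rw [← h1, e2]
    rfl

end K317.LamBC
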