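import Groth.Agent.JacVar.K532.ThetaAmple
import Groth.Agent.JacVar.K532.ThetaMain
import Groth.Agent.JacVar.K532.KOne

/-!
# The pull-back of the theta line bundle along the Abel map (`k` algebraically closed)

* `pull_theta`: `j^* Θ_N = Ω ⊗ N⁻¹ ⊗ O(σ)`.
-/

set_option autoImplicit false
universe u
open CategoryTheory CategoryTheory.Limits AlgebraicGeometry MonoidalCategory CartesianMonoidalCategory
open scoped MonObj

namespace K317.PullTheta

open Groth.Agent Groth.Agent.Fga.JacFactor in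
theorem dcl_eq {Y : Scheme.{u}} {D E : Y.IdealSheafData} (h : D = E) (hD : BlowUp.IsEffCartierIdeal D)
    (hE : BlowUp.IsEffCartierIdeal E) : dcl D hD = dcl E hE := by
  subst h; rfl

open Groth.Agent Groth.Agent.Grpsch.PicGrp Groth.Agent.Fga.RigGrp Groth.Agent.Sga7.H732.Hedge
open Groth.Agent.Sga7.H732 K532.UnitBase K532.CurvePic K532.CurvePts K532.Dict Groth.Agent.Fga.JacSum
open Groth.Agent.Fga.JacFactor K532.Setup K532.KPts K532.Wr K532.MultPts K532.Theta1 Groth.Agent.Grpsch.Cube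
open K532.NonHyp K532.ThetaClass Groth.Agent.Divis.EffCartier K532.ThetaIdeal K532.Lam K532.ThetaMain K532

variable {k : Type u} [Field k] [IsAlgClosed k] {C : Scheme.{u}} [C.Over (Spec (CommRingCat.of k))] (hX : IsCurve k C)
  {σ : Spec (CommRingCat.of k) ⟶ C} {hσ : σ ≫ (C ↘ Spec (CommRingCat.of k)) = 𝟙 (Spec (CommRingCat.of k))}
  {J : Over (Spec (CommRingCat.of k))} [GrpObj J] {ξ : Pic (PicF.XT (C ↘ Spec (CommRingCat.of k)) J)}
  (h : IsJac (C ↘ Spec (CommRingCat.of k)) σ hσ J ξ) [IsProper (C ↘ Spec (CommRingCat.of k))] [IsProper J.hom]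
  [GeometricallyIntegral J.hom] [IsCommMonObj J]
  [SmoothOfRelativeDimension 1 (C ↘ Spec (CommRingCat.of k))]
  {j : Over.mk (C ↘ Spec (CommRingCat.of k)) ⟶ J} (hj : IsAbel h j)
  {hdim : topologicalKrullDim C = 1} {ψ : (ModFun.PicDeg (C ↘ Spec (CommRingCat.of k)) 0).Hom ⊤ J}
  (hψ : Compat (C ↘ Spec (CommRingCat.of k)) hdim σ hσ J ψ ξ) [Smooth (C ↘ Spec (CommRingCat.of k))]
  [GeometricallyConnected (C ↘ Spec (CommRingCat.of k))]

include hX h hj in
/-- The pull-back of the class of any translate of `Θ⁻`. -/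
theorem pull_IT_any {n : ℕ} (hn : gen k C = n + 1) (hE : BlowUp.IsEffCartierIdeal (IT j n 1))
    (b : 𝟙_ (Over (Spec (CommRingCat.of k))) ⟶ J) :
    (pull j.left (dcl (IT j n b) (isEff_IT n hE b)))⁻¹ = kcl h b * (pcl hX (sg hσ))⁻¹ ^ (n + 1) := by
  set q := pcl hX (sg hσ) with hq
  have hdc : deg k C (kcl h b * q⁻¹ ^ (n + 1)) = ((n + 1 : ℕ) : ℤ) := by
    rw [deg_mul hX, deg_kcl hX h, deg_pow hX, deg_inv hX, hq, deg_pcl]
    push_cast
    ring
  have hpos : 0 < CurvePic.h k C 0 (kcl h b * q⁻¹ ^ (n + 1)) := by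
    have h1 := rr' hX (kcl h b * q⁻¹ ^ (n + 1))
    rw [hdc, hn] at h1
    push_cast at h1
    omega
  obtain ⟨D, hD⟩ := (h0_pos_iff hX hdc).1 hpos
  have hb : b = (List.ofFn fun i => pm _ (D i).1 (D i).2 ≫ j).prod := by
    apply kcl_injective h
    rw [kcl_prod hX h hj, ← hD, ← hq]
    cgroup
  have h1 := pull_IT hX h hj hn (KOne.kone hX h hj hn) hE D
  rw [← hb] at h1
  rw [h1, hD]

include hX h hj hψ in
/-- **The pull-back of the theta line bundle.** -/
theorem pull_theta {n : ℕ} (hn : gen k C = n + 1) {N : C.Modules} (hN : PicF.IsInvertible N)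
    (hdeg : deg k C (mk N hN) = (gen k C : ℤ) - 1) {ΘJ : J.left.Modules}
    (hΘJ : Jac.IsThetaLB (C ↘ Spec (CommRingCat.of k)) 0 ψ N ΘJ) :
    pull j.left (mk ΘJ hΘJ.1) = om hX * (mk N hN)⁻¹ * (pcl hX (sg hσ))⁻¹ := by
  have hE := ThetaCartier.isEff_theta hX h hj hn
  obtain ⟨ν, hν⟩ := exists_kcl hX h (c := (mk N hN)⁻¹ * (pcl hX (sg hσ))⁻¹ ^ (gen k C - 1)) (by
    rw [deg_mul hX, deg_inv hX, deg_pow hX, deg_inv hX, deg_pcl, hdeg]
    push_cast [Nat.cast_sub (show 1 ≤ gen k C by omega)]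
    ring)
  obtain ⟨κ, hκ⟩ := exists_kcl hX h (c := om hX * pcl hX (sg hσ) ^ (2 * gen k C - 2)) (by
    rw [deg_mul hX, deg_om, deg_pow hX, deg_pcl]
    push_cast [Nat.cast_sub (show 2 ≤ 2 * gen k C by omega)]
    ring)
  have hloc := K531.ThetaLoc.thetaLocus_eq hX h hψ hj hN hdeg hν
  have e : gen k C - 1 = n := by omega
  have hI : Scheme.IdealSheafData.vanishingIdeal
      ⟨Jac.thetaLocus (C ↘ Spec (CommRingCat.of k)) 0 ψ N, isClosed_closure⟩ = IT j n (ν * κ) := by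
    rw [IT]
    congr 1
    apply TopologicalSpace.Closeds.ext
    refine hloc.trans ?_
    rw [e, transl_W_eq hX h hj hn hκ ν]
    exact (isClosed_transl _ (isClosed_inv (isClosed_W j n))).closure_eq.symm
  obtain ⟨-, hLI⟩ := id hΘJ
  obtain ⟨e'⟩ := id hLI
  have hIi := Fga.IntAdd.isInvertible_of_tensor e'
  have hE1 := Dix.IdealModCartier.isEffCartierIdeal_of_isInvertible hIi
  have h2 : mk ΘJ hΘJ.1 = (dcl _ hE1)⁻¹ := Models.H65.PicDeg.mk_of_isInverseOf hΘJ.1 hIi hLI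
  rw [h2, dcl_eq hI hE1 (isEff_IT n hE (ν * κ)), map_inv, pull_IT_any hX h hj hn hE, map_mul, hν, hκ]
  have e2 : 2 * gen k C - 2 = n + n := by omega
  rw [e, e2]
  cgroup

end K317.PullTheta
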