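import Groth.Agent.Jac.K317.TrGcl
import Groth.Agent.Jac.K317.CoarseSep

/-!
# Tools for the reduction to an algebraically closed field
-/

set_option autoImplicit false
universe u
open CategoryTheory CategoryTheory.Limits AlgebraicGeometry Opposite TopologicalSpace

namespace K317.Red

open Groth.Agent Groth.Agent.Grpsch Groth.Agent.Grpsch.PicGrp Groth.Agent.Fga.RigGrp Groth.Agent.Fga.JacSum
open K914.Cls K914.Points K317.JumpPts K317.ThetaBC K317.Trans K317.TrGcl Groth.Agent.Fdesc.LocGen

variable {k : Type u} [Field k] {X : Scheme.{u}} {f : X ⟶ Spec (CommRingCat.of k)}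
  [IsProper f] [Smooth f] [GeometricallyConnected f] [SmoothOfRelativeDimension 1 f]
  {d : ℤ} {J : Over (Spec (CommRingCat.of k))} {ψ : (ModFun.PicDeg f d).Hom ⊤ J}

/-- The jump locus depends only on the class of the module. -/
theorem jumpLocus_congr {M M' : X.Modules} (hM : PicF.IsInvertible M) (hM' : PicF.IsInvertible M')
    (h : mk M hM = mk M' hM') : Jac.jumpLocus f d ψ M = Jac.jumpLocus f d ψ M' := by
  ext y
  rw [mem_jumpLocus_iff' ψ M hM, mem_jumpLocus_iff' ψ M' hM', h]

theorem isThetaLB_congr {M M' : X.Modules} (hM : PicF.IsInvertible M) (hM' : PicF.IsInvertible M')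
    (h : mk M hM = mk M' hM') {Θ : J.left.Modules} (hΘ : Jac.IsThetaLB f d ψ M Θ) : Jac.IsThetaLB f d ψ M' Θ := by
  obtain ⟨h1, h2⟩ := hΘ
  refine ⟨h1, ?_⟩
  have e : (⟨Jac.thetaLocus f d ψ M, isClosed_closure⟩ : Closeds J.left) =
      ⟨Jac.thetaLocus f d ψ M', isClosed_closure⟩ := by
    apply TopologicalSpace.Closeds.ext
    exact congrArg closure (jumpLocus_congr hM hM' h)
  rw [← e]
  exact h2

theorem mk_pull_structureModule {Y Z : Scheme.{u}} (p : Y ⟶ Z) :
    mk ((Scheme.Modules.pullback p).obj (Coh.structureModule Z)) (isInvertible_pullback p isInvertible_structureModule) =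
      mk (Coh.structureModule Y) isInvertible_structureModule := by
  rw [← pull_mk p isInvertible_structureModule, ← one_def, ← one_def, map_one]

/-- The diagonal is the graph of the identity. -/
theorem gcl_idPt [IsSeparated f] (h : PicF.IsInvertible (ClSub.idealMod (pullback.diagonal f).ker)) :
    gcl f (Sga7.H732.Abel.idPt (f := f)) = mk (ClSub.idealMod (pullback.diagonal f).ker) h := rfl

theorem hasDeg_structureModule : HasDeg f (mk (Coh.structureModule X) isInvertible_structureModule) 0 := by
  rw [← one_def]
  exact hasDeg_one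

section theta

variable {K : Type u} [Field K] (a : Spec (CommRingCat.of K) ⟶ Spec (CommRingCat.of k))

/-- The classical theta divisor and extension of the base field. -/
theorem isThetaLB_bc' [IsSeparated J.hom] {n : ℕ} (hn : (n : ℤ) = d) {Θ : J.left.Modules}
    (hΘ : Jac.IsThetaLB f d ψ (Coh.structureModule X) Θ) :
    Jac.IsThetaLB (pullback.snd f a) d (K317.CoarseBC.psiK a ψ) (Coh.structureModule _)
      ((Scheme.Modules.pullback (pullback.fst J.hom a)).obj Θ) := by
  have h := isThetaLB_bc ψ a (Coh.structureModule X) isInvertible_structureModule hasDeg_structureModule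
    (n := n) (by rw [hn, add_zero]) hΘ
  exact isThetaLB_congr _ _ (mk_pull_structureModule (pullback.fst f a)) h

end theta

end K317.Red
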