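import Groth.Agent.Jac.K317.ShRep
import Groth.Agent.Picfga.RepA

/-!
# The degree `d` part of a representing scheme of the étale sheafified Picard functor

* `exists_isSh`: if `P` represents the étale sheafification of `T ↦ Pic X_T`, an open subscheme of `P` represents the
  classes of fibre degree `d`.
* `isSh_of_isCoarse`: every coarse moduli scheme represents the étale sheafification.
-/

set_option autoImplicit false
universe u
open CategoryTheory CategoryTheory.Limits AlgebraicGeometry Opposite TopologicalSpace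

namespace K317.ShEx

open Groth.Agent Groth.Agent.Grpsch Groth.Agent.Grpsch.PicGrp Groth.Agent.Fga.RigGrp
open Groth.Agent.Fga.JacAlg Groth.Agent.Picfga.ChiDef Groth.Agent.Fga.JacSurj
open Groth.Agent.Ega3A.PicDiv Groth.Agent.Ega3A.PicEtSh Groth.Agent.Ega3A.PicSheaf Groth.Agent.Ega3A.PicLocBase
open Groth.Agent.Picfga.OverRep
open K914.Cls K317.ShRep

variable {k : Type u} [Field k] {X : Scheme.{u}} {f : X ⟶ Spec (CommRingCat.of k)}
  [IsProper f] [Smooth f] [GeometricallyConnected f] [SmoothOfRelativeDimension 1 f]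

omit [Smooth f] [GeometricallyConnected f] [SmoothOfRelativeDimension 1 f] in
theorem chiAt_locEq {T : Over (Spec (CommRingCat.of k))} {c c' : Pic (PicF.XT f T)} (h : LocEq f T c c') (τ : T.left) :
    chiAt f T τ c = chiAt f T τ c' := by
  obtain ⟨𝒰, h⟩ := h
  obtain ⟨i, v, rfl⟩ := 𝒰.covers τ
  rw [← chiAt_pull (Fga.JacFib.bcStep f), ← chiAt_pull (Fga.JacFib.bcStep f)]
  exact congrArg _ (h i)

omit [Smooth f] [GeometricallyConnected f] [SmoothOfRelativeDimension 1 f] in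
theorem chiAt_pu {T T' : Over (Spec (CommRingCat.of k))} (g : T' ⟶ T) (τ : T'.left) (c : Pic (PicF.XT f T)) :
    chiAt f T' τ (pu f g c) = chiAt f T (g.left τ) c := chiAt_pull (Fga.JacFib.bcStep f) g τ c

omit [Smooth f] [GeometricallyConnected f] [SmoothOfRelativeDimension 1 f] in
theorem chiAt_one {T T' : Over (Spec (CommRingCat.of k))} (g : T' ⟶ T) (τ : T'.left) :
    chiAt f T (g.left τ) 1 = chiAt f T' τ 1 := by
  rw [← chiAt_pull (Fga.JacFib.bcStep f), map_one]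

section ex

variable {P : Over (Spec (CommRingCat.of k))}
  {φ : ∀ T : Over (Spec (CommRingCat.of k)), PicF.Cl (PicF.XT f T) → (T ⟶ P)} (hφ : PicRel.IsRelPic f P φ)
  (𝒰 : ECov P) (c : ∀ i, Pic (PicF.XT f (𝒰.V i))) (hc : ∀ i, φ (𝒰.V i) (toCl (c i)) = 𝒰.j i)

/-- The points of degree `d`. -/
def degSet (d : ℤ) : Set P.left :=
  {y | ∃ (i : 𝒰.ι) (τ : (𝒰.V i).left), (𝒰.j i).left τ = y ∧ chiAt f (𝒰.V i) τ (c i) = chiAt f (𝒰.V i) τ 1 + d}

omit [Smooth f] [GeometricallyConnected f] [SmoothOfRelativeDimension 1 f] in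
theorem isOpen_degSet (P₁ : Picfga.P1Def.P1Data f) (d : ℤ) : IsOpen (degSet 𝒰 c d) := by
  have h1 : degSet 𝒰 c d = ⋃ i, (𝒰.j i).left '' {τ | chiAt f (𝒰.V i) τ (c i) = chiAt f (𝒰.V i) τ 1 + d} := by
    ext y
    simp only [degSet, Set.mem_setOf_eq, Set.mem_iUnion, Set.mem_image]
    exact ⟨fun ⟨i, τ, h1, h2⟩ => ⟨i, τ, h2, h1⟩, fun ⟨i, τ, h2, h1⟩ => ⟨i, τ, h1, h2⟩⟩
  rw [h1]
  refine isOpen_iUnion fun i => ?_
  have h2 : IsOpenMap (𝒰.j i).left := (𝒰.j i).left.isOpenMap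
  exact h2 _ (isOpen_isDeg P₁ _ _ _)

include hφ hc

omit [Smooth f] [GeometricallyConnected f] [SmoothOfRelativeDimension 1 f] in
theorem mem_degSet_iff (d : ℤ) {T : Over (Spec (CommRingCat.of k))} (e : Pic (PicF.XT f T)) (τ : T.left) :
    (φ T (toCl e)).left τ ∈ degSet 𝒰 c d ↔ chiAt f T τ e = chiAt f T τ 1 + d := by
  obtain ⟨𝒱, h𝒱⟩ := exists_pull 𝒰 (φ T (toCl e))
  obtain ⟨l, v, rfl⟩ := 𝒱.covers τ
  obtain ⟨i, s, hs⟩ := h𝒱 l
  have h1 : LocEq f _ (pu f (𝒱.j l) e) (pu f s (c i)) := by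
    rw [locEq_iff hφ, nat' hφ, nat' hφ, hc, hs]
  have h2 : chiAt f T ((𝒱.j l).left v) e = chiAt f _ (s.left v) (c i) := by
    rw [← chiAt_pu, ← chiAt_pu]
    exact chiAt_locEq h1 v
  have h3 : (φ T (toCl e)).left ((𝒱.j l).left v) = (𝒰.j i).left (s.left v) := by
    have := congrArg (fun z : 𝒱.V l ⟶ P => z.left v) hs
    exact this
  have h4 : chiAt f T ((𝒱.j l).left v) 1 = chiAt f _ (s.left v) 1 := by
    rw [chiAt_one, chiAt_one]
  rw [h2, h3, h4]
  constructor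
  · rintro ⟨i₀, τ₀, h5, h6⟩
    obtain ⟨w, hw1, hw2⟩ := Scheme.Pullback.exists_preimage_pullback (f := (𝒰.j i).left) (g := (𝒰.j i₀).left)
      (s.left v) τ₀ h5.symm
    let W : Over (Spec (CommRingCat.of k)) := Over.mk (pullback.fst (𝒰.j i).left (𝒰.j i₀).left ≫ (𝒰.V i).hom)
    let a : W ⟶ 𝒰.V i := Over.homMk (pullback.fst _ _) rfl
    let b : W ⟶ 𝒰.V i₀ := Over.homMk (pullback.snd _ _) (by
      change pullback.snd _ _ ≫ (𝒰.V i₀).hom = pullback.fst _ _ ≫ (𝒰.V i).hom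
      rw [← Over.w (𝒰.j i), ← Over.w (𝒰.j i₀), pullback.condition_assoc])
    have hab : a ≫ 𝒰.j i = b ≫ 𝒰.j i₀ := by
      ext1
      exact pullback.condition
    have h7 : LocEq f W (pu f a (c i)) (pu f b (c i₀)) := by
      rw [locEq_iff hφ, nat' hφ, nat' hφ, hc, hc, hab]
    have h8 := chiAt_locEq h7 w
    rw [chiAt_pu, chiAt_pu] at h8
    have ha : a.left w = s.left v := hw1
    have hb : b.left w = τ₀ := hw2
    rw [← ha, chiAt_one] 
    rw [h8, hb, h6, ← hb, chiAt_one]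
  · intro h5
    exact ⟨i, _, rfl, h5⟩

end ex

section main

variable (P₁ : Picfga.P1Def.P1Data f) {P : Over (Spec (CommRingCat.of k))}
  {φ : ∀ T : Over (Spec (CommRingCat.of k)), PicF.Cl (PicF.XT f T) → (T ⟶ P)} (hφ : PicRel.IsRelPic f P φ)

include P₁ hφ in
/-- The degree `d` part. -/
theorem exists_isSh (d : ℤ) : ∃ (U : P.left.Opens) (ψ : (ModFun.PicDeg f d).Hom ⊤ (Over.mk (U.ι ≫ P.hom))),
    IsSh ψ ∧ ∀ (T : Over (Spec (CommRingCat.of k))) (c : Pic (PicF.XT f T)) (hc : IsDeg f d c),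
      psiCl ψ c hc ≫ Over.homMk U.ι rfl = φ T (toCl c) := by
  obtain ⟨𝒰, c, hc⟩ := exists_local hφ (𝟙 P)
  simp only [Category.comp_id] at hc
  let U : P.left.Opens := ⟨degSet 𝒰 c d, isOpen_degSet 𝒰 c P₁ d⟩
  let Q : Over (Spec (CommRingCat.of k)) := Over.mk (U.ι ≫ P.hom)
  let j : Q ⟶ P := Over.homMk U.ι rfl
  have hj : Mono j := by
    have : Mono j.left := inferInstanceAs (Mono U.ι)
    exact Over.mono_of_mono_left j
  have hex : ∀ (T : Over (Spec (CommRingCat.of k))) (g : T ⟶ P) (_ : ∀ τ, g.left τ ∈ U), ∃ g' : T ⟶ Q, g' ≫ j = g := by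
    intro T g hg
    have h1 : Set.range g.left ⊆ Set.range U.ι := by
      rintro _ ⟨τ, rfl⟩
      rw [Scheme.Opens.range_ι]
      exact hg τ
    refine ⟨Over.homMk (IsOpenImmersion.lift U.ι g.left h1) ?_, ?_⟩
    · change IsOpenImmersion.lift U.ι g.left h1 ≫ U.ι ≫ P.hom = T.hom
      rw [IsOpenImmersion.lift_fac_assoc]
      exact Over.w g
    · ext1
      exact IsOpenImmersion.lift_fac _ _ _
  choose lft hlft using hex
  have hmem : ∀ (T : Over (Spec (CommRingCat.of k))) (e : Pic (PicF.XT f T)) (_ : IsDeg f d e) (τ : T.left),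
      (φ T (toCl e)).left τ ∈ U := fun T e he τ => (mem_degSet_iff hφ 𝒰 c hc d e τ).2 (he τ)
  let ψ : (ModFun.PicDeg f d).Hom ⊤ Q :=
    { app := fun T L _ hL => lft T (φ T (toCl (mk L (isInvertible_of_ok hL)))) (hmem T _ (isDeg_of_ok hL))
      natural := by
        intro T T' g L _ _ hL hL'
        rw [← cancel_mono j, hlft, Category.assoc, hlft, ← nat' hφ, pu, pull_mk]
        rfl
      resp := by
        intro T L L' _ hL hL' hr
        obtain ⟨M, hM, ⟨e⟩⟩ := hr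
        have hr' : mk L' (isInvertible_of_ok hL') = mk L (isInvertible_of_ok hL) * pull (PicF.XTproj f T) (mk M hM) := by
          rw [pull_mk, mk_mul_mk]
          exact mk_congr e
        rw [← cancel_mono j, hlft, hlft, ← locEq_iff hφ, hr']
        apply LocEq.of_zar
        intro t
        obtain ⟨V, hV, hV1⟩ := Picfga.RepA.exists_open_pull_eq_one (mk M hM) t
        refine ⟨V, hV, LocEq.of_eq ?_⟩
        have h2 : pu f (res T V) (pull (PicF.XTproj f T) (mk M hM)) = 1 := by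
          rw [pu, ← pull_comp, Fga.RigGrp.XTmap_XTproj, pull_comp]
          change pull _ (pull V.ι _) = 1
          rw [hV1, map_one]
        rw [map_mul, h2, mul_one] }
  have key : ∀ (T : Over (Spec (CommRingCat.of k))) (e : Pic (PicF.XT f T)) (he : IsDeg f d e),
      psiCl ψ e he ≫ j = φ T (toCl e) := by
    intro T e he
    obtain ⟨L, hL, rfl⟩ := exists_mk e
    rw [← app_eq ψ trivial ((ok_iff hL).2 he) _ he rfl]
    exact hlft _ _ _
  refine ⟨U, ψ, ⟨fun T g => ?_, fun T e e' he he' h => ?_⟩, key⟩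
  · obtain ⟨𝒱, e, he⟩ := exists_local hφ (g ≫ j)
    have hdeg : ∀ i, IsDeg f d (e i) := by
      intro i τ
      rw [← mem_degSet_iff hφ 𝒰 c hc, he]
      exact (g.left ((𝒱.j i).left τ)).2
    refine ⟨𝒱, e, hdeg, fun i => ?_⟩
    rw [← cancel_mono j, key, he, Category.assoc]
  · rw [locEq_iff hφ, ← key T e he, ← key T e' he', h]

include P₁ in
/-- **A coarse moduli scheme of line bundles of degree `d` represents the étale sheafification.** -/
theorem isSh_of_isCoarse (hP : PicRel.Representable f) {d : ℤ} {J : Over (Spec (CommRingCat.of k))}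
    {ψ : (ModFun.PicDeg f d).Hom ⊤ J} (hJ : ModFun.IsCoarseModuli ⊤ (ModFun.PicDeg f d) J ψ) : IsSh ψ := by
  obtain ⟨P, φ, hφ⟩ := hP
  obtain ⟨U, χ, hχ, -⟩ := exists_isSh P₁ hφ d
  have hco := hχ.isCoarse
  obtain ⟨a, ha, -⟩ := hJ.2.1 _ χ
  obtain ⟨b, hb, -⟩ := hco.2.1 _ ψ
  have hab : a ≫ b = 𝟙 J := by
    obtain ⟨g, -, hg⟩ := hJ.2.1 J ψ
    rw [hg (a ≫ b) fun T x hT hx => by rw [← Category.assoc, ← ha, ← hb], hg (𝟙 J) fun T x hT hx => by rw [Category.comp_id]]
  have hψ : ∀ (T : Over (Spec (CommRingCat.of k))) (e : Pic (PicF.XT f T)) (he : IsDeg f d e),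
      psiCl χ e he = psiCl ψ e he ≫ a := by
    intro T e he
    obtain ⟨L, hL, rfl⟩ := exists_mk e
    rw [← app_eq ψ trivial ((ok_iff hL).2 he) _ he rfl, ← app_eq χ trivial ((ok_iff hL).2 he) _ he rfl]
    exact ha _ _ _ _
  have hχ' : ∀ (T : Over (Spec (CommRingCat.of k))) (e : Pic (PicF.XT f T)) (he : IsDeg f d e),
      psiCl ψ e he = psiCl χ e he ≫ b := by
    intro T e he
    rw [hψ, Category.assoc, hab, Category.comp_id]
  refine ⟨fun T g => ?_, fun T e e' he he' h => ?_⟩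
  · obtain ⟨𝒱, e, he, h⟩ := hχ.surj T (g ≫ a)
    refine ⟨𝒱, e, he, fun i => ?_⟩
    rw [hχ', h, Category.assoc, Category.assoc, hab, Category.comp_id]
  · exact hχ.inj T e e' he he' (by rw [hψ, hψ, h])

end main

end K317.ShEx
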