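import Groth.Agent.Ega3A.PicLocBase
import Groth.Agent.Jac.K914.Cls
import Groth.Agent.Ega3B.JacSteps

/-!
# Coarse moduli of line bundles of degree `d` represent the étale sheafification

* `IsSh ψ`: `(J, ψ)` represents the étale sheafification of classes of fibre degree `d`.
* `IsSh.isCoarse`: then it is a coarse moduli scheme.
* `exists_isSh`: existence from a representing scheme of the étale sheafified Picard functor.
* `isSh_of_isCoarse`: every coarse moduli scheme is of this kind.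
-/

set_option autoImplicit false
universe u
open CategoryTheory CategoryTheory.Limits AlgebraicGeometry Opposite TopologicalSpace

namespace K317.ShRep

open Groth.Agent Groth.Agent.Grpsch Groth.Agent.Grpsch.PicGrp Groth.Agent.Fga.RigGrp
open Groth.Agent.Fga.JacAlg Groth.Agent.Picfga.ChiDef Groth.Agent.Fga.JacSurj
open Groth.Agent.Ega3A.PicDiv Groth.Agent.Ega3A.PicEtSh Groth.Agent.Ega3A.PicSheaf Groth.Agent.Ega3A.PicLocBase
open K914.Cls

variable {k : Type u} [Field k] {X : Scheme.{u}} {f : X ⟶ Spec (CommRingCat.of k)}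
  [IsProper f] [Smooth f] [GeometricallyConnected f] [SmoothOfRelativeDimension 1 f]

/-- `(J, ψ)` represents the étale sheafification of the classes of fibre degree `d`. -/
structure IsSh {d : ℤ} {J : Over (Spec (CommRingCat.of k))} (ψ : (ModFun.PicDeg f d).Hom ⊤ J) : Prop where
  surj : ∀ (T : Over (Spec (CommRingCat.of k))) (g : T ⟶ J), ∃ (𝒰 : ECov T) (c : ∀ i, Pic (PicF.XT f (𝒰.V i)))
    (hc : ∀ i, IsDeg f d (c i)), ∀ i, psiCl ψ (c i) (hc i) = 𝒰.j i ≫ g
  inj : ∀ (T : Over (Spec (CommRingCat.of k))) (c c' : Pic (PicF.XT f T)) (hc : IsDeg f d c) (hc' : IsDeg f d c'),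
    psiCl ψ c hc = psiCl ψ c' hc' → LocEq f T c c'

variable {d : ℤ} {J : Over (Spec (CommRingCat.of k))} {ψ : (ModFun.PicDeg f d).Hom ⊤ J}

theorem psiCl_pu {T T' : Over (Spec (CommRingCat.of k))} (g : T' ⟶ T) (c : Pic (PicF.XT f T)) (hc : IsDeg f d c) :
    psiCl ψ (pu f g c) (hc.pull g) = g ≫ psiCl ψ c hc := (comp_psiCl ψ g c hc).symm

theorem psiCl_eq_of_locEq {T : Over (Spec (CommRingCat.of k))} {c c' : Pic (PicF.XT f T)} (hc : IsDeg f d c)
    (hc' : IsDeg f d c') (h : LocEq f T c c') : psiCl ψ c hc = psiCl ψ c' hc' := by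
  obtain ⟨𝒰, h⟩ := h
  apply hom_ext_ecov 𝒰
  intro i
  rw [← psiCl_pu _ c hc, ← psiCl_pu _ c' hc']
  exact psiCl_congr ψ (h i) _

omit [Smooth f] [GeometricallyConnected f] [SmoothOfRelativeDimension 1 f] in
theorem isOpen_isDeg (P : Picfga.P1Def.P1Data f) (T : Over (Spec (CommRingCat.of k))) (c : Pic (PicF.XT f T)) (d : ℤ) :
    IsOpen {τ : T.left | chiAt f T τ c = chiAt f T τ 1 + d} := by
  have h1 : ∀ c : Pic (PicF.XT f T), IsLocallyConstant fun τ : T.left => chiAt f T τ c := by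
    intro c
    obtain ⟨M, hM, rfl⟩ := exists_mk c
    have h := Ega3B.ChiFib.isLocallyConstant_chi P T hM
    convert h using 2 with τ
    exact (Ega3B.JacSteps.euler_eq_chiAt f T τ M hM).symm
  have h3 := ((h1 c).sub (h1 1)).isClopen_fiber d
  convert h3.isOpen using 1
  ext τ
  simp only [Set.mem_setOf_eq, Pi.sub_apply]
  constructor
  · intro h; rw [h]; ring
  · intro h; rw [← h]; ring

/-- A section over the spectrum of an algebraically closed field lifts along an étale covering. -/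
theorem exists_lift {Ω : Type u} [Field Ω] [IsAlgClosed Ω] (t : Spec (CommRingCat.of Ω) ⟶ Spec (CommRingCat.of k))
    (𝒰 : ECov (Over.mk t)) : ∃ (i : 𝒰.ι) (s : Over.mk t ⟶ 𝒰.V i), s ≫ 𝒰.j i = 𝟙 _ := by
  obtain ⟨i, v, -⟩ := 𝒰.covers (IsLocalRing.closedPoint Ω)
  let g : (𝒰.V i).left ⟶ Spec (CommRingCat.of Ω) := (𝒰.j i).left
  have hg : Etale g := 𝒰.isEtale i
  have h1 : JacobsonSpace (𝒰.V i).left := LocallyOfFiniteType.jacobsonSpace g
  have h2 : (closedPoints (𝒰.V i).left).Nonempty := by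
    by_contra h
    rw [Set.not_nonempty_iff_eq_empty] at h
    have h3 := closure_closedPoints (X := (𝒰.V i).left)
    rw [h, closure_empty] at h3
    have : v ∈ (∅ : Set (𝒰.V i).left) := h3 ▸ Set.mem_univ v
    exact this
  obtain ⟨y, hy⟩ := h2
  obtain ⟨s, hs, -⟩ := Fga.JacFactor.exists_section_of_closed (K := Ω) (Iso.refl _) g y hy
  refine ⟨i, Over.homMk s ?_, ?_⟩
  · have h4 : g ≫ t = (𝒰.V i).hom := Over.w (𝒰.j i)
    change s ≫ (𝒰.V i).hom = t
    rw [← h4, ← Category.assoc, hs, Category.id_comp]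
  · ext1
    exact hs

theorem IsSh.isCoarse (h : IsSh ψ) : ModFun.IsCoarseModuli ⊤ (ModFun.PicDeg f d) J ψ := by
  refine ⟨fun Ω _ _ t => trivial, fun N χ => ?_, fun Ω _ _ t _ => ⟨fun g => ?_, fun L L' hL hL' e => ?_⟩⟩
  · obtain ⟨𝒰, c, hc, hU⟩ := h.surj J (𝟙 J)
    obtain ⟨g, hg⟩ := glue_hom_ecov 𝒰 (fun i => psiCl χ (c i) (hc i)) (by
      intro i l W a b hab
      rw [← psiCl_pu a (c i) (hc i), ← psiCl_pu b (c l) (hc l)]
      apply psiCl_eq_of_locEq
      apply h.inj W _ _ ((hc i).pull a) ((hc l).pull b)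
      rw [psiCl_pu a (c i) (hc i), psiCl_pu b (c l) (hc l), hU, hU, Category.comp_id, Category.comp_id, hab])
    have key : ∀ (T : Over (Spec (CommRingCat.of k))) (e : Pic (PicF.XT f T)) (he : IsDeg f d e),
        psiCl χ e he = psiCl ψ e he ≫ g := by
      intro T e he
      obtain ⟨𝒱, h𝒱⟩ := exists_pull 𝒰 (psiCl ψ e he)
      apply hom_ext_ecov 𝒱
      intro l
      obtain ⟨i, s, hs⟩ := h𝒱 l
      rw [← Category.assoc, hs, Category.assoc, hg, ← psiCl_pu _ e he, ← psiCl_pu s (c i) (hc i)]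
      apply psiCl_eq_of_locEq
      apply h.inj _ _ _ (he.pull _) ((hc i).pull s)
      rw [psiCl_pu _ e he, psiCl_pu s (c i) (hc i), hU, hs, Category.comp_id]
    refine ⟨g, fun T L hT hL => ?_, fun g' hg' => ?_⟩
    · rw [app_eq' χ hT hL, app_eq' ψ hT hL]
      exact key _ _ _
    · apply hom_ext_ecov 𝒰
      intro i
      rw [hg]
      obtain ⟨L, hL, e⟩ := exists_mk (c i)
      have hok : (ModFun.PicDeg f d).ok (𝒰.V i) L := (ok_iff hL).2 (e ▸ hc i)
      have h1 := hg' (𝒰.V i) L trivial hok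
      have h2 := app_eq ψ trivial hok (c i) (hc i) e.symm
      have h3 := app_eq χ trivial hok (c i) (hc i) e.symm
      rw [← h3, h1, h2, hU, Category.comp_id]
  · obtain ⟨𝒰, c, hc, hU⟩ := h.surj (Over.mk t) g
    obtain ⟨i, s, hs⟩ := exists_lift t 𝒰
    obtain ⟨L, hL, e⟩ := exists_mk (pu f s (c i))
    have hd : IsDeg f d (pu f s (c i)) := (hc i).pull s
    have hok : (ModFun.PicDeg f d).ok (Over.mk t) L := (ok_iff hL).2 (e ▸ hd)
    refine ⟨L, hok, ?_⟩
    rw [app_eq ψ _ hok (pu f s (c i)) hd e.symm, psiCl_pu s (c i) (hc i), hU, ← Category.assoc, hs, Category.id_comp]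
  · rw [app_eq' ψ _ hL, app_eq' ψ _ hL'] at e
    obtain ⟨𝒰, hU⟩ := h.inj _ _ _ _ _ e
    obtain ⟨i, s, hs⟩ := exists_lift t 𝒰
    have h1 := congrArg (pu f s) (hU i)
    rw [← pu_comp, ← pu_comp, pu_eq f hs, pu_eq f hs, pu_id, pu_id] at h1
    refine ⟨Coh.structureModule _, Fdesc.LocGen.isInvertible_structureModule, ?_⟩
    have h2 : PicGrp.mk L' (isInvertible_of_ok hL') = PicGrp.mk L (isInvertible_of_ok hL) *
        pull (PicF.XTproj f (Over.mk t)) 1 := by
      rw [map_one, mul_one]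
      exact h1.symm
    rw [one_def, pull_mk, mk_mul_mk, mk_eq_iff] at h2
    exact h2

end K317.ShRep
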