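import Groth.Agent.Jac.K317.JumpPts
import Groth.Agent.Jac.K914.Pow
import Groth.Agent.S4667
import Groth.Agent.Ega1.ReducedSub
import Groth.Agent.Divis.EffCartier

/-!
# The theta divisor commutes with extension of the base field

* `thetaLocus_eq`: the theta locus is the image of `X^n`; `ideal_eq`: its ideal is the kernel of `X^n ⟶ J`.
* `jumpLocus_bc`, `thetaLocus_bc`, `ideal_bc`, `isThetaLB_bc`.
-/

set_option autoImplicit false
universe u
open CategoryTheory CategoryTheory.Limits AlgebraicGeometry Opposite TopologicalSpace MonoidalCategory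
  CartesianMonoidalCategory MonObj

namespace K317.ThetaBC

open Groth.Agent Groth.Agent.Grpsch Groth.Agent.Grpsch.PicGrp Groth.Agent.Fga.RigGrp Groth.Agent.Fga.JacSum
open Groth.Agent.Fga.JacAlg Groth.Agent.Picfga.ChiDef Groth.Agent.Fga.JacSurj Groth.Agent.Ega3A.PicLocBase
open K914.Cls K914.Points K914.HField K914.PtDrop K317.CoarseBC K732.BC K317.JumpPts Groth.Agent.Fdesc.LocGen

variable {k : Type u} [Field k] {X : Scheme.{u}} {f : X ⟶ Spec (CommRingCat.of k)}
  [IsProper f] [Smooth f] [GeometricallyConnected f] [SmoothOfRelativeDimension 1 f]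
  {m d : ℤ} {n : ℕ} {J : Over (Spec (CommRingCat.of k))} (ψ : (ModFun.PicDeg f d).Hom ⊤ J)

section locus

variable (M : X.Modules) (hM : PicF.IsInvertible M) (hN : HasDeg f (mk M hM) m) (hn : (n : ℤ) = d + m)

theorem isProper_qmap [IsSeparated J.hom] : IsProper (qmap ψ (mk M hM) hN hn).left := by
  have h1 : IsProper ((qmap ψ (mk M hM) hN hn).left ≫ J.hom) := by
    rw [Over.w]
    exact K914.Pow.isProper_base f n
  exact IsProper.of_comp _ J.hom

include hM hN hn in
theorem isClosed_jumpLocus [IsSeparated J.hom] : IsClosed (Jac.jumpLocus f d ψ M) := by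
  have := isProper_qmap ψ M hM hN hn
  rw [← range_qmap ψ M hM hN hn]
  exact (qmap ψ (mk M hM) hN hn).left.isClosedMap.isClosed_range

theorem thetaLocus_eq [IsSeparated J.hom] :
    Jac.thetaLocus f d ψ M = Set.range (qmap ψ (mk M hM) hN hn).left := by
  rw [range_qmap]
  exact (isClosed_jumpLocus ψ M hM hN hn).closure_eq

theorem ideal_eq [IsSeparated J.hom] :
    Scheme.IdealSheafData.vanishingIdeal ⟨Jac.thetaLocus f d ψ M, isClosed_closure⟩ =
      (qmap ψ (mk M hM) hN hn).left.ker := by
  have h0 := isProper_qmap ψ M hM hN hn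
  have h1 : Smooth (Jac.powOver f n).hom := K914.Pow.smooth_base f n
  have h2 : IsReduced (Jac.powOver f n).left := Flat2B.SmoothGeom.isReduced_of_smooth (Jac.powOver f n).hom
  rw [Ega1.ReducedSub.ker_eq_vanishingIdeal]
  congr 1
  apply TopologicalSpace.Closeds.ext
  change Jac.thetaLocus f d ψ M = closure _
  rw [range_qmap]
  rfl

end locus

section h

variable {K : Type u} [Field K] (a : Spec (CommRingCat.of K) ⟶ Spec (CommRingCat.of k))

theorem hK_tr {L : Type u} [Field L] (t : Spec (CommRingCat.of L) ⟶ Spec (CommRingCat.of K)) (i : ℕ)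
    (c : Pic (PicF.XT (pullback.snd f a) (Over.mk t))) :
    hK f (t ≫ a) i (tr a (Over.mk t) c) = hK (pullback.snd f a) t i c := by
  obtain ⟨M, hM, rfl⟩ := exists_mk c
  let _ := overK (pullback.snd f a) t
  let _ := overK f (t ≫ a)
  have h1 : CompactSpace (PicF.XT (pullback.snd f a) (Over.mk t)) := by
    have : QuasiCompact (PicF.XTproj (pullback.snd f a) (Over.mk t)) :=
      inferInstanceAs (QuasiCompact (pullback.snd (pullback.snd f a) (Over.mk t).hom))
    exact (quasiCompact_iff_compactSpace (PicF.XTproj (pullback.snd f a) (Over.mk t))).1 inferInstance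
  have h2 : QuasiSeparatedSpace (PicF.XT (pullback.snd f a) (Over.mk t)) := by
    have : QuasiSeparated (PicF.XTproj (pullback.snd f a) (Over.mk t)) :=
      inferInstanceAs (QuasiSeparated (pullback.snd (pullback.snd f a) (Over.mk t).hom))
    exact (quasiSeparated_iff_quasiSeparatedSpace (PicF.XTproj (pullback.snd f a) (Over.mk t))).1 inferInstance
  exact @K914.Sc.finrank_iso L _ (PicF.XT (pullback.snd f a) (Over.mk t)) (PicF.XT f (Over.mk (t ≫ a)))
    (overK (pullback.snd f a) t) (overK f (t ≫ a)) (eT f a (Over.mk t)) (eT_hom_snd f a (Over.mk t)) h1 h2 M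
    (Ega2.QCohLocal.isQCoh_of_isInvertible hM) _ (Iso.refl _) i

omit [IsProper f] [Smooth f] [GeometricallyConnected f] [SmoothOfRelativeDimension 1 f] in
theorem tr_NT (N : Pic X) (T : Over (Spec (CommRingCat.of K))) :
    tr a T (NT (pullback.snd f a) (pull (pullback.fst f a) N) T) = NT f N ((Over.map a).obj T) := by
  rw [tr, NT, NT, ← pull_comp, ← pull_comp]
  exact congrArg (fun z => pull z N) ((Category.assoc _ _ _).trans (eT_hom_fst_fst f a T))

theorem hasDeg_bc {N : Pic X} (hN : HasDeg f N m) : HasDeg (pullback.snd f a) (pull (pullback.fst f a) N) m := by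
  intro T
  rw [← isDeg_tr, tr_NT]
  exact hN _

end h

/-- Points of the jump locus, in terms of classes. -/
theorem mem_jumpLocus_iff' (M : X.Modules) (hM : PicF.IsInvertible M) (y : J.left) :
    y ∈ Jac.jumpLocus f d ψ M ↔ ∃ (Ω : Type u) (_ : Field Ω) (_ : IsAlgClosed Ω)
      (t : Spec (CommRingCat.of Ω) ⟶ Spec (CommRingCat.of k)) (c : Pic (PicF.XT f (Over.mk t)))
      (hc : IsDeg f d c), 0 < hK f t 0 (c * NT f (mk M hM) (Over.mk t)) ∧
        ∃ p : Spec (CommRingCat.of Ω), (psiCl ψ c hc).left p = y := by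
  constructor
  · rintro ⟨Ω, _, _, t, hP, L, hL, hns, p, rfl⟩
    have hMt : PicF.IsInvertible ((Scheme.Modules.pullback (pullback.fst f t)).obj M) :=
      Fdesc.LocGen.isInvertible_pullback _ hM
    have hLi := isInvertible_of_ok hL
    have hns' : 0 < hK f t 0 (mk _ (isInvertible_tensorMod hLi hMt)) :=
      (not_subsingleton_iff t (isInvertible_tensorMod hLi hMt)).1 hns
    have e1 : mk _ (isInvertible_tensorMod hLi hMt) = mk L hLi * NT f (mk M hM) (Over.mk t) := by
      rw [NT, pull_mk, mk_mul_mk]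
      rfl
    refine ⟨Ω, inferInstance, inferInstance, t, mk L hLi, isDeg_of_ok hL, e1 ▸ hns', p, ?_⟩
    exact congrArg (fun z : Over.mk t ⟶ J => z.left p) (app_eq' ψ hP hL).symm
  · rintro ⟨Ω, _, _, t, c, hc, h, p, rfl⟩
    obtain ⟨L, hLi, rfl⟩ := exists_mk c
    have hL : (ModFun.PicDeg f d).ok (Over.mk t) L := (ok_iff hLi).2 hc
    have hMt : PicF.IsInvertible ((Scheme.Modules.pullback (pullback.fst f t)).obj M) :=
      Fdesc.LocGen.isInvertible_pullback _ hM
    have e1 : mk _ (isInvertible_tensorMod hLi hMt) = mk L hLi * NT f (mk M hM) (Over.mk t) := by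
      rw [NT, pull_mk, mk_mul_mk]
      rfl
    refine ⟨Ω, inferInstance, inferInstance, t, trivial, L, hL,
      (not_subsingleton_iff t (isInvertible_tensorMod hLi hMt)).2 (e1 ▸ h), p, ?_⟩
    exact congrArg (fun z : Over.mk t ⟶ J => z.left p) (app_eq ψ trivial hL _ hc rfl)

section bc

variable {K : Type u} [Field K] (a : Spec (CommRingCat.of K) ⟶ Spec (CommRingCat.of k))
  (M : X.Modules) (hM : PicF.IsInvertible M)

include hM in
theorem jumpLocus_bc : Jac.jumpLocus (pullback.snd f a) d (psiK a ψ)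
    ((Scheme.Modules.pullback (pullback.fst f a)).obj M) =
      (pullback.fst J.hom a) ⁻¹' (Jac.jumpLocus f d ψ M) := by
  have hM' : PicF.IsInvertible ((Scheme.Modules.pullback (pullback.fst f a)).obj M) :=
    Fdesc.LocGen.isInvertible_pullback _ hM
  have eM : mk _ hM' = pull (pullback.fst f a) (mk M hM) := by rw [pull_mk]
  ext y
  rw [mem_jumpLocus_iff' _ _ hM', eM]
  constructor
  · rintro ⟨Ω, _, _, t, c, hc, h, p, rfl⟩
    rw [Set.mem_preimage, mem_jumpLocus_iff' _ _ hM]
    refine ⟨Ω, inferInstance, inferInstance, t ≫ a, tr a (Over.mk t) c, (isDeg_tr a).2 hc, ?_, p, ?_⟩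
    · rw [← hK_tr, tr_mul, tr_NT] at h
      exact h
    · rw [psiCl_psiK]
      have h1 := up_left_fst (k := a) (U := Over.mk t) (psiCl ψ (tr a (Over.mk t) c) ((isDeg_tr a).2 hc))
      exact congrArg (fun z => z p) h1.symm
  · intro hy
    rw [Set.mem_preimage, mem_jumpLocus_iff' _ _ hM] at hy
    obtain ⟨Ω, _, _, t, c, hc, h, p, hp⟩ := hy
    obtain ⟨w, hw1, hw2⟩ := Scheme.Pullback.exists_preimage_pullback (f := (psiCl ψ c hc).left)
      (g := pullback.fst J.hom a) p y hp
    let W := pullback (psiCl ψ c hc).left (pullback.fst J.hom a)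
    let Ω' := AlgebraicClosure (W.residueField w)
    let v : Spec (CommRingCat.of Ω') ⟶ W :=
      Spec.map (CommRingCat.ofHom (algebraMap (W.residueField w) Ω')) ≫ fsr W w
    have hv : v (IsLocalRing.closedPoint Ω') = w := by
      rw [Scheme.Hom.comp_apply, fsr_apply]
    let g : Spec (CommRingCat.of Ω') ⟶ pullback J.hom a := v ≫ pullback.snd _ _
    let s : Spec (CommRingCat.of Ω') ⟶ Spec (CommRingCat.of Ω) := v ≫ pullback.fst _ _
    let t' : Spec (CommRingCat.of Ω') ⟶ Spec (CommRingCat.of K) := g ≫ pullback.snd J.hom a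
    have hw : s ≫ (psiCl ψ c hc).left = g ≫ pullback.fst J.hom a :=
      (Category.assoc _ _ _).trans ((congrArg (v ≫ ·) pullback.condition).trans (Category.assoc _ _ _).symm)
    have hs : s ≫ t = t' ≫ a :=
      calc s ≫ t = s ≫ (psiCl ψ c hc).left ≫ J.hom := congrArg (s ≫ ·) (Over.w (psiCl ψ c hc)).symm
        _ = (s ≫ (psiCl ψ c hc).left) ≫ J.hom := (Category.assoc _ _ _).symm
        _ = (g ≫ pullback.fst J.hom a) ≫ J.hom := congrArg (· ≫ J.hom) hw
        _ = g ≫ pullback.snd J.hom a ≫ a :=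
          (Category.assoc _ _ _).trans (congrArg (g ≫ ·) pullback.condition)
        _ = t' ≫ a := (Category.assoc _ _ _).symm
    let s' : Over.mk (t' ≫ a) ⟶ Over.mk t := Over.homMk s hs
    obtain ⟨e, he⟩ := tr_surjective (f := f) a (Over.mk t') (pull (PicF.XTmap f s') c)
    have hde : IsDeg f d (tr a (Over.mk t') e) := by rw [he]; exact hc.pull s'
    refine ⟨Ω', inferInstance, inferInstance, t', e, (isDeg_tr a).1 hde, ?_, IsLocalRing.closedPoint Ω', ?_⟩
    · rw [← hK_tr, tr_mul, tr_NT, he]
      have h1 := hK_pull f s' 0 (c * NT f (mk M hM) (Over.mk t))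
      rw [map_mul, pull_NT] at h1
      rw [← h1] at h
      exact h
    · rw [psiCl_psiK]
      have h1 : up (k := a) (U := Over.mk t') (psiCl ψ (tr a (Over.mk t') e) hde) = Over.homMk g rfl := by
        apply hom_ext_bc
        rw [up_left_fst, psiCl_congr ψ he, ← comp_psiCl ψ s' c hc]
        exact hw
      rw [h1]
      change g (IsLocalRing.closedPoint Ω') = y
      change (v ≫ pullback.snd _ _) (IsLocalRing.closedPoint Ω') = y
      rw [Scheme.Hom.comp_apply, hv]
      exact hw2

variable (hN : HasDeg f (mk M hM) m) (hn : (n : ℤ) = d + m)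

include hN hn

theorem thetaLocus_bc [IsSeparated J.hom] : Jac.thetaLocus (pullback.snd f a) d (psiK a ψ)
    ((Scheme.Modules.pullback (pullback.fst f a)).obj M) =
      (pullback.fst J.hom a) ⁻¹' (Jac.thetaLocus f d ψ M) := by
  have h1 := isClosed_jumpLocus ψ M hM hN hn
  rw [Jac.thetaLocus, Jac.thetaLocus, jumpLocus_bc ψ a M hM, h1.closure_eq]
  exact (h1.preimage (pullback.fst J.hom a).continuous).closure_eq

theorem ideal_bc [IsSeparated J.hom] :
    Scheme.IdealSheafData.vanishingIdeal ⟨Jac.thetaLocus (pullback.snd f a) d (psiK a ψ)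
      ((Scheme.Modules.pullback (pullback.fst f a)).obj M), isClosed_closure⟩ =
    (Scheme.IdealSheafData.vanishingIdeal ⟨Jac.thetaLocus f d ψ M, isClosed_closure⟩).comap
      (pullback.fst J.hom a) := by
  have h0 := isProper_qmap ψ M hM hN hn
  let q := (qmap ψ (mk M hM) hN hn).left
  let p := pullback.fst J.hom a
  have hp : Flat p := inferInstance
  have hsm : Smooth (pullback.snd q p ≫ pullback.snd J.hom a) := by
    have h1 : IsPullback (pullback.fst q p) (pullback.snd q p ≫ pullback.snd J.hom a) (q ≫ J.hom) a :=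
      (IsPullback.of_hasPullback q p).paste_vert (IsPullback.of_hasPullback J.hom a)
    have h2 : Smooth (q ≫ J.hom) := by
      change Smooth ((qmap ψ (mk M hM) hN hn).left ≫ J.hom)
      rw [Over.w]
      exact K914.Pow.smooth_base f n
    exact MorphismProperty.of_isPullback h1 h2
  have hred : IsReduced (pullback q p) :=
    Flat2B.SmoothGeom.isReduced_of_smooth (pullback.snd q p ≫ pullback.snd J.hom a)
  have hq : IsProper q := h0
  have h3 := S4667.result q p
  rw [Ega1.ReducedSub.ker_eq_vanishingIdeal] at h3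
  rw [ideal_eq ψ M hM hN hn, ← h3]
  congr 1
  apply TopologicalSpace.Closeds.ext
  change Jac.thetaLocus (pullback.snd f a) d (psiK a ψ) _ = closure _
  rw [Scheme.Pullback.range_snd, thetaLocus_bc ψ a M hM hN hn, thetaLocus_eq ψ M hM hN hn]
  refine (IsClosed.closure_eq ?_).symm
  exact (q.isClosedMap.isClosed_range).preimage p.continuous

/-- **The theta line bundle commutes with extension of the base field.** -/
theorem isThetaLB_bc [IsSeparated J.hom] {Θ : J.left.Modules} (hΘ : Jac.IsThetaLB f d ψ M Θ) :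
    Jac.IsThetaLB (pullback.snd f a) d (psiK a ψ) ((Scheme.Modules.pullback (pullback.fst f a)).obj M)
      ((Scheme.Modules.pullback (pullback.fst J.hom a)).obj Θ) := by
  obtain ⟨h1, h2⟩ := hΘ
  have h3 : PicF.IsInvertible ((Scheme.Modules.pullback (pullback.fst J.hom a)).obj Θ) :=
    Fdesc.LocGen.isInvertible_pullback _ h1
  have hI := Dix.IdealModCartier.isEffCartierIdeal_of_isInverseOf h2
  have hI' := Divis.EffCartier.isEff_comap_flat hI (pullback.fst J.hom a)
  refine ⟨h3, ?_⟩
  have h4 := Dix.IdealModCartier.pullback_idealMod (pullback.fst J.hom a) hI hI'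
  have h5 : mk Θ h1 * mk _ (Dix.IdealModCartier.isInvertible_idealMod hI) = 1 := by
    rw [mk_mul_mk, mk_eq_one_iff]
    exact h2
  have h6 := congrArg (pull (pullback.fst J.hom a)) h5
  rw [map_mul, map_one, pull_mk, pull_mk] at h6
  have h7 : mk _ (Fdesc.LocGen.isInvertible_pullback (pullback.fst J.hom a)
      (Dix.IdealModCartier.isInvertible_idealMod hI)) = mk _ (Dix.IdealModCartier.isInvertible_idealMod hI') :=
    (mk_eq_iff _ _).2 h4
  have h8 : mk _ h3 * mk _ (Dix.IdealModCartier.isInvertible_idealMod hI') = 1 := by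
    rw [← h7]
    exact h6
  rw [mk_mul_mk, mk_eq_one_iff] at h8
  rw [ideal_bc ψ a M hM hN hn]
  exact h8

end bc

end K317.ThetaBC
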